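import Cfsg.Agent.Lib.HallGen.OmegaNineSpectrum.Tori
import Cfsg.Agent.Lib.Classical.ClassTheory.UnipotentModels
import Cfsg.Agent.Lib.HallGen.SpEightSpectrum.Upper

/-!
# Unipotent parts on fixed spaces and translations
-/

set_option autoImplicit false

namespace CfsgLib.HallGen.OmegaNineSpectrum

open Module
open QuadraticMap (polar polarBilin)
open CfsgLib.Classical CfsgLib.Classical.Quad CfsgLib.Known.OmegaCriterion
open CfsgLib.HallGen.PrimeGraphBC (prodHom prodHom_injective conjHom conjHom_injective oEnd oEnd_injective nondeg_prod)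

variable {F : Type*} [Field F]

/-- The sum of the powers of an isometry up to its order. -/
noncomputable def sumPow {V : Type*} [AddCommGroup V] [Module F V] {Q : QuadraticForm F V} (g : OQ Q) :
    Module.End F V :=
  ∑ i ∈ Finset.range (orderOf g), oEnd Q g ^ i

/-- An order realised in `V ⋊ Ω`. -/
def Flex (p : ℕ) {V : Type*} [AddCommGroup V] [Module F V] (Q : QuadraticForm F V) (n : ℕ) : Prop :=
  ∃ x : OQ Q, x ∈ commutator (OQ Q) ∧ (n ∣ orderOf x ∨ (sumPow x ≠ 0 ∧ n ∣ p * orderOf x))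

theorem Flex.mono {p : ℕ} {V : Type*} [AddCommGroup V] [Module F V] {Q : QuadraticForm F V} {n k : ℕ}
    (h : Flex p Q n) (hd : k ∣ n) : Flex p Q k := by
  obtain ⟨x, hx, h | ⟨h1, h2⟩⟩ := h
  exacts [⟨x, hx, Or.inl (hd.trans h)⟩, ⟨x, hx, Or.inr ⟨h1, hd.trans h2⟩⟩]

theorem geom_pow {V : Type*} [AddCommGroup V] [Module F V] (p : ℕ) [Fact p.Prime] [CharP F p]
    (T : Module.End F V) (j : ℕ) : ∑ i ∈ Finset.range (p ^ j), T ^ i = (T - 1) ^ (p ^ j - 1) := by
  have h : (∑ i ∈ Finset.range (p ^ j), (Polynomial.X : Polynomial F) ^ i) = (Polynomial.X - 1) ^ (p ^ j - 1) := by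
    have hne : (Polynomial.X - 1 : Polynomial F) ≠ 0 := by
      simpa using Polynomial.X_sub_C_ne_zero (1 : F)
    refine mul_left_cancel₀ hne ?_
    rw [mul_geom_sum, ← pow_succ', Nat.sub_add_cancel (Nat.one_le_pow _ _ (Fact.out : p.Prime).pos),
      sub_pow_char_pow, one_pow]
  simpa using congrArg (Polynomial.aeval T) h

theorem sum_periodic {V : Type*} [AddCommGroup V] [Module F V] {T : Module.End F V} {a : ℕ} (h : T ^ a = 1)
    (k : ℕ) : ∑ i ∈ Finset.range (a * k), T ^ i = (k : F) • ∑ i ∈ Finset.range a, T ^ i := by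
  induction k with
  | zero => simp
  | succ k ih =>
    rw [mul_add, mul_one, Finset.sum_range_add, ih, Nat.cast_succ, add_smul, one_smul]
    congr 1
    refine Finset.sum_congr rfl fun i _ => ?_
    rw [pow_add, pow_mul, h, one_pow, one_mul]

variable [Fintype F] {p : ℕ} [Fact p.Prime] [CharP F p]

local notation "qq" => Fintype.card F

omit [Fintype F] [Fact p.Prime] in
theorem sub_one_pow_prime_pow {V : Type*} [AddCommGroup V] [Module F V] [Nontrivial V] [Fact p.Prime]
    (T : Module.End F V) (j : ℕ) : (T - 1) ^ p ^ j = T ^ p ^ j - 1 := by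
  haveI : CharP (Module.End F V) p := charP_of_injective_algebraMap (algebraMap F _).injective p
  rw [sub_pow_char_pow_of_commute p j (Commute.one_right _), one_pow]

/-- A regular unipotent isometry in odd dimension. -/
theorem exists_regular (h2 : (2 : F) ≠ 0) (l : ℕ) :
    ∃ (Q : QuadraticForm F (Fin (2 * l + 1) → F)) (U : OQ Q), (polarBilin Q).Nondegenerate ∧
      (∃ j, orderOf U = p ^ j) ∧ ∀ i, i < 2 * l + 1 → (oEnd Q U - 1) ^ i ≠ 0 := by
  have h := ClassTheory.oModel_odd (F := F) h2 l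
  unfold ClassTheory.OModel at h
  rw [Multiset.sum_singleton] at h
  obtain ⟨Q, a, hQ, ha, ⟨r, hr⟩, hprof⟩ := h
  let U : OQ Q := ⟨a, fun v _ => ha v⟩
  have hU : oEnd Q U - 1 = (a : (Fin (2 * l + 1) → F) →ₗ[F] _) - 1 := rfl
  refine ⟨Q, U, hQ, ?_, fun i hi h0 => ?_⟩
  · have hone : U ^ p ^ r = 1 := by
      refine oEnd_injective ?_
      rw [map_pow, map_one, ← sub_eq_zero, ← sub_one_pow_prime_pow, hU]
      exact pow_eq_zero_of_le (Nat.lt_pow_self (Fact.out : p.Prime).one_lt).le hr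
    obtain ⟨j, -, hj⟩ := (Nat.dvd_prime_pow (Fact.out : p.Prime)).1 (orderOf_dvd_of_pow_eq_one hone)
    exact ⟨j, hj⟩
  · have h2' := hprof i
    rw [← hU, h0, LinearMap.range_zero, finrank_bot] at h2'
    simp [Known.Jordan.prof] at h2'
    omega

/-- An even-dimensional space of any discriminant with a long unipotent chain. -/
theorem exists_fixed_space (h2 : (2 : F) ≠ 0) (l : ℕ) (c : SqClass F) :
    ∃ (Q : QuadraticForm F ((Fin (2 * l + 1) → F) × F)) (U : OQ Q), (polarBilin Q).Nondegenerate ∧ disc Q = c ∧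
      U ∈ commutator (OQ Q) ∧
      (∃ j, orderOf U = p ^ j) ∧ ∀ i, i < 2 * l + 1 → (oEnd Q U - 1) ^ i ≠ 0 := by
  obtain ⟨Q₁, U, hQ₁, ⟨j, hj⟩, hch⟩ := exists_regular (p := p) h2 l
  obtain ⟨z, hz, hzc⟩ := exists_sqc_eq (c * disc Q₁)
  let L : QuadraticForm F F := (z / 2) • QuadraticMap.sq
  have hL : ∀ x y, polar L x y = z * x * y := fun x y => by
    simp only [polar, L, smul_apply, QuadraticMap.sq_apply, smul_eq_mul]
    field_simp
    ring
  have hLn : (polarBilin L).Nondegenerate := nondegenerate_of_left fun x hx => by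
    have h1 : z * x * 1 = 0 := (hL x 1).symm.trans (hx 1)
    rw [mul_one] at h1
    exact (mul_eq_zero.1 h1).resolve_left hz
  have hLd : disc L = sqc z := by
    rw [disc_eq_basis hLn (Basis.singleton Unit F)]
    congr 1
    rw [Matrix.det_unique, LinearMap.BilinForm.toMatrix_apply, QuadraticMap.polarBilin_apply_apply, hL]
    simp
  have hQ := nondeg_prod hQ₁ hLn
  set x := prodHom Q₁ L (U, 1) with hx
  have hxo : orderOf x = p ^ j := by
    rw [hx, orderOf_injective _ (prodHom_injective Q₁ L), Prod.orderOf_mk, orderOf_one, Nat.lcm_one_right, hj]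
  refine ⟨Q₁.prod L, x, hQ, ?_, ?_, ⟨j, hxo⟩, fun i hi h0 => hch i hi (LinearMap.ext fun v => ?_)⟩
  · rw [disc_prod hQ₁ hLn, hLd, hzc, ← mul_assoc, mul_comm (disc Q₁), mul_assoc, sqClass_mul_self, mul_one]
  · rw [mem_commutator_iff hQ (reflGroup_top h2 hQ)]
    refine invs_of_odd h2 hQ (Odd.pow ((Fact.out : p.Prime).odd_of_ne_two fun h => h2 ?_) (n := j))
      (by rw [← hxo, pow_orderOf_eq_one])
    have := (CharP.cast_eq_zero_iff F p 2).2 (by rw [h])
    exact_mod_cast this
  · have key : ∀ (i : ℕ) (v : Fin (2 * l + 1) → F), ((oEnd (Q₁.prod L) x - 1) ^ i) (v, (0 : F)) = (((oEnd Q₁ U - 1) ^ i) v, (0 : F)) := by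
      intro i
      induction i with
      | zero => intro v; rfl
      | succ i ih =>
        intro v
        rw [pow_succ, pow_succ, Module.End.mul_apply, Module.End.mul_apply]
        have : (oEnd (Q₁.prod L) x - 1) (v, (0 : F)) = ((oEnd Q₁ U - 1) v, (0 : F)) := by
          refine Prod.ext rfl ?_
          show (0 : F) - 0 = 0
          rw [sub_zero]
        rw [this, ih]
    have h1 := key i v
    rw [h0, LinearMap.zero_apply] at h1
    exact (congrArg Prod.fst h1).symm

/-- Orders are transported along isometries. -/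
theorem Flex.congr (h2 : (2 : F) ≠ 0) {V W : Type*} [AddCommGroup V] [Module F V] [FiniteDimensional F V]
    [AddCommGroup W] [Module F W] [FiniteDimensional F W] {Q : QuadraticForm F V} {R : QuadraticForm F W}
    (hQ : (polarBilin Q).Nondegenerate) (hR : (polarBilin R).Nondegenerate) (E : V ≃ₗ[F] W)
    (hE : ∀ v, R (E v) = Q v) {n : ℕ} (h : Flex p Q n) : Flex p R n := by
  obtain ⟨x, hx, h⟩ := h
  have hE' : ∀ v, R (E v) = 1 * Q v := fun v => by rw [one_mul, hE]
  obtain ⟨h1, h1'⟩ := invs_conjHom h2 hQ hR E hE' x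
  have ho : orderOf (conjHom E 1 hE' x) = orderOf x := orderOf_injective _ (conjHom_injective E 1 hE') x
  refine ⟨conjHom E 1 hE' x, (mem_commutator_iff hR (reflGroup_top h2 hR) _).2 ?_, ?_⟩
  · rw [h1, h1']
    exact (mem_commutator_iff hQ (reflGroup_top h2 hQ) x).1 hx
  rw [ho]
  refine h.imp id fun ⟨hs, hn⟩ => ⟨fun h0 => hs (LinearMap.ext fun v => E.injective ?_), hn⟩
  have key : ∀ i, (oEnd R (conjHom E 1 hE' x) ^ i) (E v) = E ((oEnd Q x ^ i) v) := fun i => by
    rw [← map_pow, ← map_pow, ← map_pow]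
    show E (((x ^ i : OQ Q) : V ≃ₗ[F] V) (E.symm (E v))) = E (((x ^ i : OQ Q) : V ≃ₗ[F] V) v)
    rw [E.symm_apply_apply]
  have h3 : sumPow (conjHom E 1 hE' x) (E v) = E (sumPow x v) := by
    rw [sumPow, sumPow, ho, LinearMap.sum_apply, LinearMap.sum_apply, map_sum]
    exact Finset.sum_congr rfl fun i _ => key i
  rw [h0, LinearMap.zero_apply] at h3
  rw [LinearMap.zero_apply, map_zero]
  exact h3.symm

theorem disc_qMinus_ne_one (h2 : (2 : F) ≠ 0) {a b : F}
    (hab : ∀ z₁ z₂ : F, z₁ ^ 2 + a * z₁ * z₂ + b * z₂ ^ 2 = 0 → z₁ = 0 ∧ z₂ = 0) :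
    disc (qMinus 3 F a b) ≠ 1 := by
  have hd0 : (-1 : F) ^ 3 * (4 * b - a ^ 2) ≠ 0 := by
    rw [← det_gram_qMinus]
    exact det_gram_ne_zero (qMinus_nondeg hab 3) _
  rw [disc_eq_basis (qMinus_nondeg hab 3) (Pi.basisFun F _), det_gram_qMinus, Ne, sqc_eq_one_iff hd0]
  rintro ⟨r, hr⟩
  exact h2 (hab (r - a) 2 (by linear_combination -hr)).2

/-- Every eight-dimensional space of nonsquare discriminant is the minus one. -/
theorem flex_minus (h2 : (2 : F) ≠ 0) {a b : F}
    (hab : ∀ z₁ z₂ : F, z₁ ^ 2 + a * z₁ * z₂ + b * z₂ ^ 2 = 0 → z₁ = 0 ∧ z₂ = 0)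
    {V : Type*} [AddCommGroup V] [Module F V] [FiniteDimensional F V] {Q : QuadraticForm F V}
    (hQ : (polarBilin Q).Nondegenerate) (hd : finrank F V = 8) (hdisc : disc Q ≠ 1) {n : ℕ}
    (h : Flex p Q n) : Flex p (qMinus 3 F a b) n := by
  obtain ⟨E, hE⟩ := exists_equiv h2 hQ (qMinus_nondeg hab 3) (by rw [hd]; simp)
    (eq_of_ne_one h2 hdisc (disc_qMinus_ne_one h2 hab))
  exact h.congr h2 hQ (qMinus_nondeg hab 3) E hE

/-- An isometry padded with a fixed space carrying a unipotent chain and translations. -/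
theorem realize (h2 : (2 : F) ≠ 0) {a b : F}
    (hab : ∀ z₁ z₂ : F, z₁ ^ 2 + a * z₁ * z₂ + b * z₂ ^ 2 = 0 → z₁ = 0 ∧ z₂ = 0)
    {V : Type*} [AddCommGroup V] [Module F V] [FiniteDimensional F V] {R : QuadraticForm F V}
    (hR : (polarBilin R).Nondegenerate) (g : OQ R) (hg : par g = 0 ∧ spinor g = 1) (hg0 : 0 < orderOf g) {l τ : ℕ}
    (hdim : finrank F V + (2 * l + 2) = 8) (hτ : p ^ (τ - 1) < 2 * l + 2) :
    Flex p (qMinus 3 F a b) (Nat.lcm (orderOf g) (p ^ τ)) := by
  have hp : p.Prime := Fact.out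
  obtain ⟨s, hs, hns⟩ : ∃ s : F, s ≠ 0 ∧ sqc s ≠ 1 := by
    have hc : ringChar F ≠ 2 := fun h => h2 (by have := ringChar.eq_iff.1 h; exact CharTwo.two_eq_zero)
    obtain ⟨s, hs⟩ := FiniteField.exists_nonsquare hc
    have hs0 : s ≠ 0 := by rintro rfl; exact hs IsSquare.zero
    exact ⟨s, hs0, fun h => hs ((sqc_eq_one_iff hs0).1 h)⟩
  obtain ⟨W, U, hW, hWd, hUm, ⟨j, hj⟩, hch⟩ := exists_fixed_space (p := p) h2 l (disc R * sqc s)
  have hP := nondeg_prod hR hW
  have hP8 : finrank F (V × ((Fin (2 * l + 1) → F) × F)) = 8 := by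
    simp only [Module.finrank_prod, Module.finrank_fin_fun, Module.finrank_self]
    omega
  have hPd : disc (R.prod W) ≠ 1 := by
    rw [disc_prod hR hW, hWd, ← mul_assoc, sqClass_mul_self, one_mul]
    exact hns
  set x := prodHom R W (g, U) with hxdef
  have hxo : orderOf x = Nat.lcm (orderOf g) (p ^ j) := by
    rw [hxdef, orderOf_injective _ (prodHom_injective R W), Prod.orderOf_mk, hj]
  have hxm : x ∈ commutator (OQ (R.prod W)) := by
    rw [mem_commutator_iff hP (reflGroup_top h2 hP)]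
    obtain ⟨h1, h1'⟩ := invs_prodHom h2 hR hW g U
    obtain ⟨h3, h3'⟩ := (mem_commutator_iff hW (reflGroup_top h2 hW) U).1 hUm
    exact ⟨by rw [hxdef, h1, hg.1, h3, add_zero], by rw [hxdef, h1', hg.2, h3', mul_one]⟩
  refine flex_minus (p := p) h2 hab hP hP8 hPd ⟨x, hxm, ?_⟩
  by_cases hcase : p ^ τ ∣ Nat.lcm (orderOf g) (p ^ j)
  · exact Or.inl (hxo ▸ Nat.lcm_dvd (Nat.dvd_lcm_left _ _) hcase)
  have hjτ : j < τ := lt_of_not_ge fun h => hcase ((pow_dvd_pow p h).trans (Nat.dvd_lcm_right _ _))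
  have hjb : 2 * l + 1 ≤ p ^ j := by
    by_contra hlt
    refine hch _ (not_le.1 hlt) ?_
    haveI : Nontrivial ((Fin (2 * l + 1) → F) × F) :=
      Module.nontrivial_of_finrank_pos (R := F) (by rw [Module.finrank_prod, Module.finrank_self]; omega)
    rw [sub_one_pow_prime_pow, ← hj, ← map_pow, pow_orderOf_eq_one, map_one, sub_self]
  have hj1 : p ^ j = 2 * l + 1 ∧ j = τ - 1 := by
    have h1 : p ^ j ≤ p ^ (τ - 1) := Nat.pow_le_pow_right hp.pos (by omega)
    exact ⟨by omega, Nat.pow_right_injective hp.two_le (by omega : p ^ j = p ^ (τ - 1))⟩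
  obtain ⟨i, k, hk, hik⟩ := Nat.exists_eq_pow_mul_and_not_dvd hg0.ne' p hp.ne_one
  have hij : i ≤ j := by
    by_contra hlt
    refine hcase (((pow_dvd_pow p (show τ ≤ i by omega)).trans ?_).trans (Nat.dvd_lcm_left _ _))
    rw [hik]
    exact dvd_mul_right _ _
  have hcop : (p ^ j).Coprime k := (hp.coprime_iff_not_dvd.2 hk).pow_left j
  have hlcm : Nat.lcm (orderOf g) (p ^ j) = p ^ j * k := by
    refine Nat.dvd_antisymm (Nat.lcm_dvd ?_ (dvd_mul_right _ _))
      (hcop.mul_dvd_of_dvd_of_dvd (Nat.dvd_lcm_right _ _) ?_)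
    · rw [hik]
      exact Nat.mul_dvd_mul_right (pow_dvd_pow p hij) k
    · exact (hik ▸ dvd_mul_left k (p ^ i)).trans (Nat.dvd_lcm_left _ _)
  refine Or.inr ⟨fun h0 => ?_, ?_⟩
  · have hkey : ∀ (i : ℕ) (v : (Fin (2 * l + 1) → F) × F), (oEnd (R.prod W) x ^ i) ((0 : V), v) = ((0 : V), (oEnd W U ^ i) v) := by
      intro i
      induction i with
      | zero => intro v; rfl
      | succ i ih =>
        intro v
        rw [pow_succ, pow_succ, Module.End.mul_apply, Module.End.mul_apply]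
        have : oEnd (R.prod W) x ((0 : V), v) = ((0 : V), oEnd W U v) := Prod.ext (map_zero (g : V ≃ₗ[F] V)) rfl
        rw [this, ih]
    refine hch (p ^ j - 1) (by omega) ?_
    rw [← geom_pow]
    refine LinearMap.ext fun v => ?_
    have h1 := LinearMap.congr_fun h0 ((0 : V), v)
    rw [sumPow, hxo, hlcm, LinearMap.sum_apply, Finset.sum_congr rfl (fun i _ => hkey i v), LinearMap.zero_apply] at h1
    have h3 := congrArg Prod.snd h1
    rw [Prod.snd_sum, Prod.snd_zero, ← LinearMap.sum_apply,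
      sum_periodic (by rw [← map_pow, ← hj, pow_orderOf_eq_one, map_one]), LinearMap.smul_apply] at h3
    rw [LinearMap.zero_apply]
    exact (smul_eq_zero.1 h3).resolve_left fun h => hk ((CharP.cast_eq_zero_iff F p k).1 h)
  · rw [hxo, hlcm, ← mul_assoc, ← pow_succ', show j + 1 = τ by omega]
    refine Nat.lcm_dvd ?_ (dvd_mul_right _ _)
    rw [hik]
    exact Nat.mul_dvd_mul_right (pow_dvd_pow p (by omega)) k

omit [Fintype F] [Fact p.Prime] [CharP F p] in
/-- In even dimension an orthogonal unipotent map has no single Jordan block. -/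
theorem no_regular (h2 : (2 : F) ≠ 0) {V : Type*} [AddCommGroup V] [Module F V] [FiniteDimensional F V]
    (B : V →ₗ[F] V →ₗ[F] F) (hsym : ∀ x y, B x y = B y x) (hnd : ∀ x, (∀ y, B x y = 0) → x = 0)
    (T : Module.End F V) (hiso : ∀ x y, B ((1 + T) x) ((1 + T) y) = B x y) (hT : IsNilpotent T)
    (hn : Even (finrank F V)) (hpos : 0 < finrank F V) : T ^ (finrank F V - 1) = 0 := by
  obtain ⟨m, hm⟩ := hn
  set k := finrank F V - 1 with hk
  by_contra hne
  have hker : finrank F (LinearMap.ker T) ≤ 1 := by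
    by_contra h
    exact hne (SpEightSpectrum.nilpotent_two_kernel hT (by omega))
  have hk1 : T ^ (k + 1) = 0 := SpEightSpectrum.nilpotent_pow_finrank hT (by omega)
  have hTk : ∀ x, T ((T ^ k) x) = 0 := fun x => by rw [← Module.End.mul_apply, ← pow_succ', hk1, LinearMap.zero_apply]
  have hfix : ∀ (i : ℕ) (x : V), ((1 + T) ^ i) ((T ^ k) x) = (T ^ k) x := fun i x => by
    induction i with
    | zero => rfl
    | succ i ih => rw [pow_succ, Module.End.mul_apply, LinearMap.add_apply, Module.End.one_apply, hTk, add_zero, ih]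
  have hstep : ∀ x y, B (T x) ((1 + T) y) = -B x (T y) := fun x y => by
    have h := hiso x y
    simp only [LinearMap.add_apply, Module.End.one_apply, map_add] at h ⊢
    linear_combination h
  have hpow : ∀ (i : ℕ) (x y : V), B ((T ^ i) x) (((1 + T) ^ i) y) = (-1) ^ i * B x ((T ^ i) y) := by
    intro i
    induction i with
    | zero => intro x y; simp
    | succ i ih =>
      intro x y
      have hc : ((1 + T) ^ i) ((1 + T) y) = (1 + T) (((1 + T) ^ i) y) := by
        rw [← Module.End.mul_apply, ← Module.End.mul_apply, ← pow_succ, ← pow_succ']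
      have hc2 : T ((((1 + T) : Module.End F V) ^ i) y) = (((1 + T) : Module.End F V) ^ i) (T y) :=
        LinearMap.congr_fun (((Commute.one_right T).add_right (Commute.refl T)).pow_right i).eq y
      rw [pow_succ' T, Module.End.mul_apply, pow_succ, Module.End.mul_apply, hc, hstep, hc2, ih, pow_succ,
        mul_neg, mul_one, neg_mul]
      congr 2
      show B x ((T ^ i) (T y)) = B x ((T * T ^ i) y)
      rw [← Module.End.mul_apply, ← pow_succ, ← pow_succ']
  have hdiag : ∀ x, B ((T ^ k) x) x = 0 := fun x => by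
    have h := hpow k x x
    have he : B ((T ^ k) x) (((1 + T) ^ k) x) = B ((T ^ k) x) x := by
      conv_lhs => rw [← hfix k x]
      clear h
      have : ∀ (i : ℕ) (u v : V), B (((1 + T) ^ i) u) (((1 + T) ^ i) v) = B u v := by
        intro i
        induction i with
        | zero => intro u v; rfl
        | succ i ih => intro u v; rw [pow_succ, Module.End.mul_apply, Module.End.mul_apply, ih, hiso]
      rw [this]
    rw [he, Odd.neg_one_pow ⟨m - 1, by omega⟩, neg_one_mul, hsym x] at h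
    exact (mul_eq_zero.1 (show (2 : F) * B ((T ^ k) x) x = 0 by linear_combination h)).resolve_left h2
  obtain ⟨x₀, hx₀⟩ : ∃ x, (T ^ k) x ≠ 0 := by
    by_contra h
    push_neg at h
    exact hne (LinearMap.ext h)
  set z := (T ^ k) x₀ with hz
  obtain ⟨x₁, hx₁⟩ : ∃ x, B z x ≠ 0 := by
    by_contra h
    push_neg at h
    exact hx₀ (hnd z h)
  have hline : ∀ x, ∃ c : F, (T ^ k) x = c • z := by
    intro x
    have hz0 : z ∈ LinearMap.ker T := LinearMap.mem_ker.2 (hTk x₀)
    have hspan : Submodule.span F {z} = LinearMap.ker T :=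
      Submodule.eq_of_le_of_finrank_le (by rwa [Submodule.span_singleton_le_iff_mem])
        (by rw [finrank_span_singleton hx₀]; exact hker)
    have : (T ^ k) x ∈ Submodule.span F {z} := by rw [hspan]; exact LinearMap.mem_ker.2 (hTk x)
    obtain ⟨c, hc⟩ := Submodule.mem_span_singleton.1 this
    exact ⟨c, hc.symm⟩
  have hz0 : B z x₀ = 0 := hdiag x₀
  have hkill : ∀ x, B z x ≠ 0 → (T ^ k) x = 0 := fun x hx => by
    obtain ⟨c, hc⟩ := hline x
    have h := hdiag x
    rw [hc, map_smul, LinearMap.smul_apply, smul_eq_mul] at h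
    rw [hc, (mul_eq_zero.1 h).resolve_right hx, zero_smul]
  have h1 := hkill (x₀ + x₁) (by rw [map_add, hz0, zero_add]; exact hx₁)
  rw [map_add, hkill x₁ hx₁, add_zero] at h1
  exact hx₀ h1

end CfsgLib.HallGen.OmegaNineSpectrum
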