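import Cfsg.Agent.Lib.HallGen.OmegaNineSpectrum.Single
import Cfsg.Agent.Lib.HallGen.OmegaNineSpectrum.Fixed
import Cfsg.Agent.Lib.Classical.Quad.NegOne

/-!
# Fixed-point-free isometries of eight-dimensional spaces of square discriminant
-/

set_option autoImplicit false

namespace CfsgLib.HallGen.OmegaNineSpectrum

open Module
open QuadraticMap (polar polarBilin)
open CfsgLib.Classical.Quad CfsgLib.Known.OmegaCriterion
open CfsgLib.HallGen.PrimeGraphBC (prodHom prodHom_injective oEnd oEnd_injective nondeg_prod split)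
open CfsgLib.HallGen.SpEightSpectrum (Piece wt tor wt_zero wt_one wt_two piece_bound split_piece tor_dvd
  deg_one_dvd exists_pieces_factor)

variable {F : Type*} [Field F] [Fintype F]

local notation "qq" => Fintype.card F

theorem two_dvd_pm (hodd : Odd qq) (d : ℕ) : 2 ∣ qq ^ d + 1 ∧ 2 ∣ qq ^ d - 1 := by
  obtain ⟨r, hr⟩ := hodd.pow (n := d)
  omega

theorem exists_torus_any (hodd : Odd qq) {d t : ℕ} (hd : 1 ≤ d) (ht : t = qq ^ d + 1 ∨ t = qq ^ d - 1) :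
    ∃ (R : QuadraticForm F (Fin (2 * d) → F)) (x : OQ R) (c : SqClass F), IsTorus R x t c := by
  rcases ht with rfl | rfl
  · obtain ⟨R, x, e, -, -, h⟩ := exists_torus_minus hodd hd
    exact ⟨R, x, _, h⟩
  · obtain ⟨R, x, h⟩ := exists_torus_plus hodd hd
    exact ⟨R, x, _, h⟩

theorem torus_pair (h2 : (2 : F) ≠ 0) {V W : Type*} [AddCommGroup V] [Module F V] [FiniteDimensional F V]
    [AddCommGroup W] [Module F W] [FiniteDimensional F W] {R₁ : QuadraticForm F V} {x₁ : OQ R₁} {t₁ : ℕ}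
    {c₁ : SqClass F} (h₁ : IsTorus R₁ x₁ t₁ c₁) {R₂ : QuadraticForm F W} {x₂ : OQ R₂} {t₂ : ℕ} {c₂ : SqClass F}
    (h₂ : IsTorus R₂ x₂ t₂ c₂) :
    (polarBilin (R₁.prod R₂)).Nondegenerate ∧
      (par (prodHom R₁ R₂ (x₁, x₂)) = 0 ∧ spinor (prodHom R₁ R₂ (x₁, x₂)) = 1) ∧
      orderOf (prodHom R₁ R₂ (x₁, x₂)) = Nat.lcm t₁ t₂ ∧ disc (R₁.prod R₂) = c₁ * c₂ := by
  obtain ⟨hn₁, ho₁, hp₁, hs₁, hc₁⟩ := h₁
  obtain ⟨hn₂, ho₂, hp₂, hs₂, hc₂⟩ := h₂
  obtain ⟨hp, hs⟩ := invs_prodHom h2 hn₁ hn₂ x₁ x₂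
  refine ⟨nondeg_prod hn₁ hn₂, ⟨by rw [hp, hp₁, hp₂, add_zero], ?_⟩, ?_, by rw [disc_prod hn₁ hn₂, hc₁, hc₂]⟩
  · rw [hs, eq_of_ne_one h2 hs₁ hs₂, sqClass_mul_self]
  · rw [orderOf_injective _ (prodHom_injective R₁ R₂), Prod.orderOf_mk, ho₁, ho₂]

variable {p : ℕ} [Fact p.Prime] [CharP F p] {a b : F}

/-- Two tori filling the minus space. -/
theorem flex_pair (h2 : (2 : F) ≠ 0) (hab : ∀ z₁ z₂ : F, z₁ ^ 2 + a * z₁ * z₂ + b * z₂ ^ 2 = 0 → z₁ = 0 ∧ z₂ = 0)
    {d₁ d₂ : ℕ} (hd : d₁ + d₂ = 4) {R₁ : QuadraticForm F (Fin (2 * d₁) → F)} {x₁ : OQ R₁} {t₁ : ℕ}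
    {c₁ : SqClass F} (h₁ : IsTorus R₁ x₁ t₁ c₁) {R₂ : QuadraticForm F (Fin (2 * d₂) → F)} {x₂ : OQ R₂}
    {t₂ : ℕ} {c₂ : SqClass F} (h₂ : IsTorus R₂ x₂ t₂ c₂) (hc : c₁ * c₂ ≠ 1) :
    Flex p (qMinus 3 F a b) (Nat.lcm t₁ t₂) := by
  obtain ⟨hn, hi, ho, hdc⟩ := torus_pair h2 h₁ h₂
  refine flex_minus (p := p) h2 hab hn (by simp only [Module.finrank_prod, Module.finrank_fin_fun]; omega)
    (hdc.symm ▸ hc) ⟨_, (mem_commutator_iff hn (reflGroup_top h2 hn) _).2 hi, Or.inl ?_⟩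
  rw [ho]

theorem flex_half (hodd : Odd qq) (hab : ∀ z₁ z₂ : F, z₁ ^ 2 + a * z₁ * z₂ + b * z₂ ^ 2 = 0 → z₁ = 0 ∧ z₂ = 0) :
    Flex p (qMinus 3 F a b) (Nat.lcm (qq ^ 2 - 1) (qq ^ 2 + 1)) := by
  have h2 := two_ne (F := F) hodd
  obtain ⟨R₁, x₁, h₁⟩ := exists_torus_plus (F := F) hodd (show 1 ≤ 2 by norm_num)
  obtain ⟨R₂, x₂, e, he0, he, h₂⟩ := exists_torus_minus (F := F) hodd (show 1 ≤ 2 by norm_num)
  refine flex_pair (p := p) h2 hab rfl h₁ h₂ ?_
  rw [neg_one_sq, sqc_one, one_mul, sqc_ne_one_iff_pow h2 he0, he]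
  refine Odd.neg_one_pow ?_
  obtain ⟨r, hr⟩ := hodd
  refine ⟨r * r + r, ?_⟩
  rw [hr, show (2 * r + 1) ^ 2 + 1 = 2 * (2 * (r * r + r) + 1) by ring, Nat.mul_div_cancel_left _ two_pos]

theorem flex_mixed (hodd : Odd qq) (hab : ∀ z₁ z₂ : F, z₁ ^ 2 + a * z₁ * z₂ + b * z₂ ^ 2 = 0 → z₁ = 0 ∧ z₂ = 0)
    {d d' : ℕ} (hd : (d = 1 ∧ d' = 3) ∨ (d = 3 ∧ d' = 1)) :
    Flex p (qMinus 3 F a b) (Nat.lcm (qq ^ d - 1) (qq ^ d' + 1)) := by
  have h2 := two_ne (F := F) hodd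
  obtain ⟨R₁, x₁, h₁⟩ := exists_torus_plus (F := F) hodd (show 1 ≤ d by omega)
  obtain ⟨R₂, x₂, e, he0, he, h₂⟩ := exists_torus_minus (F := F) hodd (show 1 ≤ d' by omega)
  refine flex_pair (p := p) h2 hab (by omega) h₁ h₂ ?_
  have hm : ((-1 : F) ^ d) ≠ 0 := pow_ne_zero _ (neg_ne_zero.2 one_ne_zero)
  rw [← sqc_mul hm he0, sqc_ne_one_iff_pow h2 (mul_ne_zero hm he0), mul_pow, ← pow_mul, he, ← pow_add]
  refine Odd.neg_one_pow ?_
  obtain ⟨r, hr⟩ := hodd
  rw [hr, show (2 * r + 1) / 2 = r by omega]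
  rcases hd with ⟨rfl, rfl⟩ | ⟨rfl, rfl⟩
  · rw [show (2 * r + 1) ^ 3 + 1 = 2 * (4 * r ^ 3 + 6 * r ^ 2 + 3 * r + 1) by ring,
      Nat.mul_div_cancel_left _ two_pos]
    exact ⟨2 * r ^ 3 + 3 * r ^ 2 + 2 * r, by ring⟩
  · rw [show (2 * r + 1) ^ 1 + 1 = 2 * (r + 1) by ring, Nat.mul_div_cancel_left _ two_pos]
    exact ⟨2 * r, by ring⟩

/-- Tori, an involution, and unipotent elements below them. -/
theorem flex_tori (hodd : Odd qq) (hab : ∀ z₁ z₂ : F, z₁ ^ 2 + a * z₁ * z₂ + b * z₂ ^ 2 = 0 → z₁ = 0 ∧ z₂ = 0)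
    {d₁ d₂ t₁ t₂ l τ : ℕ} (hd₁ : 1 ≤ d₁) (hd₂ : 1 ≤ d₂) (ht₁ : t₁ = qq ^ d₁ + 1 ∨ t₁ = qq ^ d₁ - 1)
    (ht₂ : t₂ = qq ^ d₂ + 1 ∨ t₂ = qq ^ d₂ - 1) (hdim : 2 * d₁ + 2 * d₂ + (2 * l + 2) = 8)
    (hτ : p ^ (τ - 1) < 2 * l + 2) : Flex p (qMinus 3 F a b) (Nat.lcm (Nat.lcm t₁ t₂) (p ^ τ)) := by
  have h2 := two_ne (F := F) hodd
  obtain ⟨R₁, x₁, c₁, h₁⟩ := exists_torus_any (F := F) hodd hd₁ ht₁
  obtain ⟨R₂, x₂, c₂, h₂⟩ := exists_torus_any (F := F) hodd hd₂ ht₂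
  obtain ⟨hn, hi, ho, -⟩ := torus_pair h2 h₁ h₂
  have hpos : ∀ d t : ℕ, 1 ≤ d → (t = qq ^ d + 1 ∨ t = qq ^ d - 1) → 0 < t := fun d t hd ht => by
    have := Nat.one_lt_pow (by omega : d ≠ 0) (Fintype.one_lt_card (α := F))
    omega
  have h := realize (p := p) h2 hab hn _ hi (ho ▸ Nat.lcm_pos (hpos _ _ hd₁ ht₁) (hpos _ _ hd₂ ht₂)) (l := l)
    (τ := τ) (by simp only [Module.finrank_prod, Module.finrank_fin_fun]; omega) hτ
  rwa [ho] at h

theorem flex_two (hodd : Odd qq) (hab : ∀ z₁ z₂ : F, z₁ ^ 2 + a * z₁ * z₂ + b * z₂ ^ 2 = 0 → z₁ = 0 ∧ z₂ = 0)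
    {τ : ℕ} (hτ : p ^ (τ - 1) < 6) : Flex p (qMinus 3 F a b) (Nat.lcm 2 (p ^ τ)) := by
  have h2 := two_ne (F := F) hodd
  let L : QuadraticForm F F := QuadraticMap.sq
  have hL : (polarBilin L).Nondegenerate := nondegenerate_of_left fun x hx => by
    have h1 : polar L x 1 = 0 := hx 1
    simp only [polar, L, QuadraticMap.sq_apply] at h1
    exact (mul_eq_zero.1 (show (2 : F) * x = 0 by linear_combination h1)).resolve_left h2
  have hP := nondeg_prod hL hL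
  set s := negIsom hP
  obtain ⟨hp, hs⟩ := invs_fpf h2 hP s fun v hv => by
    have h1 : -v = v := (negIsom_apply hP v).symm.trans hv
    rw [neg_eq_iff_add_eq_zero, ← two_smul F v, smul_eq_zero] at h1
    exact h1.resolve_left h2
  have hdet : LinearMap.det (1 - oEnd (L.prod L) s) = 2 ^ 2 := by
    have : (1 - oEnd (L.prod L) s) = (2 : F) • (1 : Module.End F (F × F)) := LinearMap.ext fun v => by
      rw [LinearMap.sub_apply, Module.End.one_apply, LinearMap.smul_apply, Module.End.one_apply, two_smul,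
        show oEnd (L.prod L) s v = -v from negIsom_apply hP v, sub_neg_eq_add]
    rw [this, LinearMap.det_smul, map_one, mul_one, Module.finrank_prod, Module.finrank_self]
  have hord : orderOf s = 2 := by
    refine orderOf_eq_prime (Subtype.ext (LinearEquiv.ext fun v => ?_)) fun h => ?_
    · show (s : (F × F) ≃ₗ[F] F × F) ((s : (F × F) ≃ₗ[F] F × F) v) = v
      rw [negIsom_apply, negIsom_apply, neg_neg]
    · have h1 := negIsom_apply hP ((1 : F), (0 : F))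
      rw [show (negIsom hP : OQ (L.prod L)) = 1 from h] at h1
      have h3 : (1 : F) = -1 := congrArg Prod.fst h1
      exact h2 (by linear_combination h3)
  have h := realize (p := p) h2 hab hP s ⟨?_, ?_⟩ (hord ▸ two_pos) (l := 2) (τ := τ)
    (by simp [Module.finrank_prod]) hτ
  · rwa [hord] at h
  · rw [hp, Module.finrank_prod, Module.finrank_self, ZMod.natCast_eq_zero_iff_even]
    exact even_two
  · rw [hs, hdet, disc_prod hL hL, sqClass_mul_self, one_mul, sqc_eq_one_iff (pow_ne_zero _ h2)]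
    exact IsSquare.sq _

variable {V : Type*} [AddCommGroup V] [Module F V] [FiniteDimensional F V]

/-- The pieces of an isometry whose semisimple part has no fixed vectors. -/
theorem exists_shape (hodd : Odd qq) {Q : QuadraticForm F V} (hQ : (polarBilin Q).Nondegenerate)
    (hdim : finrank F V = 8) (hdisc : disc Q = 1) (s u : OQ Q) (hsu : Commute s u) (hs : spinor s = 1) {M : ℕ}
    (hM : orderOf s = M) (hM0 : 0 < M) (hpM : ¬ p ∣ M) (hfix : ∀ v, oEnd Q s v = v → v = 0)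
    (hu : IsNilpotent (oEnd Q u - 1)) :
    ∃ (l : List (Piece qq)) (e : ℕ), e + 2 * wt l = 8 ∧ M ∣ Nat.lcm (tor l) 2 ∧
      (∀ x ∈ l, x.d = 4 → M ∣ (qq ^ 4 - 1) / 2) ∧
      ∀ k, (∀ x ∈ l, x.c ≤ k) → e ≤ k + 1 → (oEnd Q u - 1) ^ k = 0 := by
  classical
  have h2 := two_ne (F := F) hodd
  have hMF : (M : F) ≠ 0 := fun h => hpM ((CharP.cast_eq_zero_iff F p M).1 h)
  rw [show qq = Nat.card F from Nat.card_eq_fintype_card.symm]
  set S := oEnd Q s with hSdef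
  set U := oEnd Q u with hUdef
  set N := U - 1 with hNdef
  set B := polarBilin Q with hB
  have hsymm : ∀ x y, B x y = B y x := fun x y => QuadraticMap.polar_comm _ x y
  have hiso : ∀ x y, B (S x) (S y) = B x y := fun x y => OQ.map_polar s x y
  have hUiso : ∀ x y, B (U x) (U y) = B x y := fun x y => OQ.map_polar u x y
  have hSM : S ^ M = 1 := by rw [hSdef, ← map_pow, ← hM, pow_orderOf_eq_one, map_one]
  have hSN : Commute S N := (hsu.map (oEnd Q)).sub_right (Commute.one_right _)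
  have hMdvd : ∀ L : ℕ, (∀ v, (S ^ L) v = v) → M ∣ L := fun L h => hM ▸ orderOf_dvd_of_pow_eq_one
    (oEnd_injective (by rw [map_pow, map_one]; exact LinearMap.ext h))
  have hpowfix : ∀ (T : Module.End F V) (v : V) (L c : ℕ), (T ^ c) v = v → c ∣ L → (T ^ L) v = v := by
    rintro T v L c h ⟨k, rfl⟩
    induction k with
    | zero => rfl
    | succ k ih => rw [Nat.mul_succ, pow_add, Module.End.mul_apply, h, ih]
  by_cases hneg : ∀ v, S v = -v → v = 0
  · obtain ⟨l, hl1, hl2, hlf, hl3⟩ := exists_pieces_factor (p := p) B hQ.1 S N hM0 hMF hSM hiso hfix hneg hu hSN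
    have hMl : M ∣ tor l := hMdvd _ fun v => by rw [hl2]; rfl
    refine ⟨l, 0, by omega, hMl.trans (Nat.dvd_lcm_left _ _), fun x hx hd => ?_, fun k hk _ => hl3 k hk⟩
    obtain ⟨l', h1, h2', -⟩ := split_piece hx
    have hc : x.c = 1 := by
      rw [hd] at h1
      have := x.hc
      omega
    rw [hd, hc] at h1
    rw [wt_zero (l := l') (by omega), Nat.lcm_one_right] at h2'
    rw [Nat.card_eq_fintype_card]
    exact single_factor hodd hQ hdim hdisc s hs hM hM0 hMF hfix hneg (hlf x hx) hd hc (hMl.trans h2')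
  push Not at hneg
  obtain ⟨v₀, hv₀, hv₀0⟩ := hneg
  have hM2F : ((2 * M : ℕ) : F) ≠ 0 := by push_cast; exact mul_ne_zero h2 hMF
  have ha : (-S) ^ (2 * M) = 1 := by rw [pow_mul, neg_sq, ← pow_mul, mul_comm, pow_mul, hSM, one_pow]
  obtain ⟨hc, horth, hndR, hinv, hfixR⟩ := split B hQ.1 (fun x y h => (hsymm y x).trans h) (-S)
    (fun x y => by rw [LinearMap.neg_apply, LinearMap.neg_apply, map_neg, map_neg, LinearMap.neg_apply, neg_neg, hiso])
    hM2F ha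
  set R := LinearMap.range (-S - 1) with hR
  set E := LinearMap.ker (-S - 1) with hEdef
  have hSE : ∀ v ∈ E, S v = -v := fun v hv => by
    rw [hEdef, LinearMap.mem_ker, LinearMap.sub_apply, LinearMap.neg_apply, Module.End.one_apply, sub_eq_zero,
      neg_eq_iff_eq_neg] at hv
    exact hv
  obtain ⟨hSR, -⟩ := hinv S (Commute.neg_right (Commute.refl S))
  obtain ⟨hNR, hNE⟩ := hinv N hSN.symm.neg_right
  obtain ⟨-, hUE⟩ := hinv U (hsu.map (oEnd Q)).symm.neg_right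
  set S' := S.restrict hSR with hS'
  set N' := N.restrict hNR with hN'
  set T := N.restrict hNE with hT
  obtain ⟨m, hm⟩ := hu
  obtain ⟨l, hl1, hl2, -, hl3⟩ := exists_pieces_factor (p := p) (B.compl₁₂ R.subtype R.subtype)
    (fun x hx => Subtype.ext (hndR x x.2 fun y hy => hx ⟨y, hy⟩)) S' N' hM0 hMF
    (LinearMap.ext fun w => Subtype.ext (by
      rw [hS', Module.End.pow_restrict M, LinearMap.restrict_coe_apply, hSM]; rfl))
    (fun x y => hiso x y) (fun x hx => Subtype.ext (hfix x (congrArg Subtype.val hx)))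
    (fun x hx => Subtype.ext (hfixR x x.2 (by
      rw [LinearMap.neg_apply, show S (x : V) = -(x : V) from congrArg Subtype.val hx, neg_neg])))
    ⟨m, LinearMap.ext fun w => Subtype.ext (by
      rw [hN', Module.End.pow_restrict m, LinearMap.restrict_coe_apply, hm]; rfl)⟩
    (LinearMap.ext fun w => Subtype.ext (LinearMap.congr_fun hSN.eq (w : V)))
  have hdimE := Submodule.finrank_add_eq_of_isCompl hc
  rw [hdim, ← hl1] at hdimE
  set e := finrank F E with he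
  have he0 : 0 < e := Nat.pos_of_ne_zero fun h0 => by
    have hbot : E = ⊥ := Submodule.finrank_eq_zero.1 h0
    have hmem : v₀ ∈ E := by
      rw [hEdef, LinearMap.mem_ker, LinearMap.sub_apply, LinearMap.neg_apply, hv₀, neg_neg, Module.End.one_apply,
        sub_self]
    rw [hbot, Submodule.mem_bot] at hmem
    exact hv₀0 hmem
  have hdec : ∀ v : V, ∃ x ∈ R, ∃ y ∈ E, v = x + y := fun v => by
    obtain ⟨x, hx, y, hy, rfl⟩ := Submodule.mem_sup.1 (hc.sup_eq_top.ge (Submodule.mem_top (x := v)))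
    exact ⟨x, hx, y, hy, rfl⟩
  have hTzero : T ^ (e - 1) = 0 := by
    refine no_regular h2 (B.compl₁₂ E.subtype E.subtype) (fun x y => hsymm x y) (fun x hx => Subtype.ext ?_) T
      (fun x y => ?_) ⟨m, LinearMap.ext fun w => Subtype.ext (by
        rw [hT, Module.End.pow_restrict m, LinearMap.restrict_coe_apply, hm]; rfl)⟩ ⟨4 - wt l, by omega⟩ he0
    · refine hQ.1 _ fun z => ?_
      obtain ⟨r, hr, w, hw, rfl⟩ := hdec z
      show B (x : V) (r + w) = 0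
      rw [map_add, hsymm, horth r hr _ x.2, zero_add]
      exact hx ⟨w, hw⟩
    · show B ((x : V) + N x) ((y : V) + N y) = B x y
      have h1 : ∀ z : V, z + N z = U z := fun z => by simp [hNdef]
      rw [h1, h1, hUiso]
  refine ⟨l, e, by omega, hMdvd _ fun v => ?_, fun x hx hd => ?_, fun k hk hek => LinearMap.ext fun v => ?_⟩
  · obtain ⟨x, hx, y, hy, rfl⟩ := hdec v
    have h1 := congrArg Subtype.val (LinearMap.congr_fun hl2 ⟨x, hx⟩)
    rw [hS', Module.End.pow_restrict (tor l), LinearMap.restrict_coe_apply] at h1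
    have h3 : (S ^ 2) y = y := by
      rw [pow_two, Module.End.mul_apply, hSE y hy, map_neg, hSE y hy, neg_neg]
    rw [map_add, hpowfix S x _ _ h1 (Nat.dvd_lcm_left _ _), hpowfix S y _ _ h3 (Nat.dvd_lcm_right _ _)]
  · have := (piece_bound hx).1
    omega
  · obtain ⟨x, hx, y, hy, rfl⟩ := hdec v
    have h1 := congrArg Subtype.val (LinearMap.congr_fun (hl3 k hk) ⟨x, hx⟩)
    rw [hN', Module.End.pow_restrict k, LinearMap.restrict_coe_apply] at h1
    have h3 := congrArg Subtype.val (LinearMap.congr_fun (pow_eq_zero_of_le (show e - 1 ≤ k by omega) hTzero) ⟨y, hy⟩)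
    rw [hT, Module.End.pow_restrict k, LinearMap.restrict_coe_apply] at h3
    rw [map_add, h1, h3]
    simp

/-- The orders of such isometries occur in the affine minus group. -/
theorem flex_eight (hodd : Odd qq) (hab : ∀ z₁ z₂ : F, z₁ ^ 2 + a * z₁ * z₂ + b * z₂ ^ 2 = 0 → z₁ = 0 ∧ z₂ = 0)
    {Q : QuadraticForm F V} (hQ : (polarBilin Q).Nondegenerate) (hdim : finrank F V = 8) (hdisc : disc Q = 1)
    (g : OQ Q) {τ M : ℕ} (hg : orderOf g = p ^ τ * M) (hM0 : 0 < M) (hpM : ¬ p ∣ M) (hsp : spinor g = 1)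
    (hfix : ∀ v, (oEnd Q g ^ p ^ τ) v = v → v = 0) : Flex p (qMinus 3 F a b) (p ^ τ * M) := by
  classical
  have hp : p.Prime := Fact.out
  have h2 := two_ne (F := F) hodd
  have hp3 : 3 ≤ p := by
    have := hp.two_le
    rcases (show p = 2 ∨ 3 ≤ p by omega) with rfl | h
    · exact absurd (CharP.cast_eq_zero F 2) (by exact_mod_cast h2)
    · exact h
  haveI : Nontrivial V := Module.nontrivial_of_finrank_pos (R := F) (by omega)
  set s := g ^ p ^ τ with hs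
  set u := g ^ M with hu
  have hpτ : 0 < p ^ τ := pow_pos hp.pos _
  have hso : orderOf s = M := by
    rw [hs, orderOf_pow_of_dvd hpτ.ne' (hg ▸ dvd_mul_right _ _), hg, Nat.mul_div_cancel_left _ hpτ]
  have huo : orderOf u = p ^ τ := by
    rw [hu, orderOf_pow_of_dvd hM0.ne' (hg ▸ dvd_mul_left _ _), hg, Nat.mul_div_cancel _ hM0]
  have hspin : spinor s = 1 := by
    have hk : ∀ k, spinor (g ^ k) = 1 := fun k => by
      induction k with
      | zero => rw [pow_zero, spinor_one hQ]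
      | succ k ih => rw [pow_succ, spinor_mul hQ (reflGroup_top h2 hQ), ih, hsp, one_mul]
    exact hk _
  have hnil : IsNilpotent (oEnd Q u - 1) :=
    ⟨p ^ τ, by rw [sub_one_pow_prime_pow, ← map_pow, ← huo, pow_orderOf_eq_one, map_one, sub_self]⟩
  obtain ⟨l, e, he, hMl, h4, hN⟩ := exists_shape (p := p) hodd hQ hdim hdisc s u ((Commute.refl g).pow_pow _ _)
    hspin hso hM0 hpM (fun v hv => hfix v (by rw [← map_pow]; exact hv)) hnil
  have hcop : (p ^ τ).Coprime M := (hp.coprime_iff_not_dvd.2 hpM).pow_left τ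
  have fin : ∀ {L : ℕ}, Flex p (qMinus 3 F a b) (Nat.lcm L (p ^ τ)) → M ∣ L →
      Flex p (qMinus 3 F a b) (p ^ τ * M) := fun h hL =>
    h.mono (hcop.mul_dvd_of_dvd_of_dvd (Nat.dvd_lcm_right _ _) (hL.trans (Nat.dvd_lcm_left _ _)))
  obtain ⟨h2p, h2m⟩ := two_dvd_pm (F := F) hodd 1
  rw [pow_one] at h2p h2m
  have ht1 : qq + 1 = qq ^ 1 + 1 ∨ qq + 1 = qq ^ 1 - 1 := Or.inl (by rw [pow_one])
  have ht1' : qq - 1 = qq ^ 1 + 1 ∨ qq - 1 = qq ^ 1 - 1 := Or.inr (by rw [pow_one])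
  rcases Nat.eq_zero_or_pos τ with rfl | hτ
  · rw [pow_zero, one_mul]
    by_cases h44 : ∃ x ∈ l, x.d = 4
    · obtain ⟨x, hx, hd⟩ := h44
      refine (flex_half (p := p) hodd hab).mono ((h4 x hx hd).trans ?_)
      obtain ⟨r, hr⟩ := hodd.pow (n := 2)
      have hprod := Nat.gcd_mul_lcm (qq ^ 2 - 1) (qq ^ 2 + 1)
      have hg2 : Nat.gcd (qq ^ 2 - 1) (qq ^ 2 + 1) ∣ 2 := by
        have h1 := Nat.dvd_sub (Nat.gcd_dvd_right (qq ^ 2 - 1) (qq ^ 2 + 1)) (Nat.gcd_dvd_left _ _)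
        rwa [show qq ^ 2 + 1 - (qq ^ 2 - 1) = 2 by omega] at h1
      obtain ⟨k, hk⟩ := hg2
      have h44 : qq ^ 4 - 1 = (qq ^ 2 - 1) * (qq ^ 2 + 1) := by
        rw [mul_comm, ← SpEightSpectrum.sq_sub_one, ← pow_mul]
      refine Nat.dvd_of_mul_dvd_mul_left two_pos ?_
      rw [Nat.mul_div_cancel' (by rw [h44]; exact Dvd.dvd.mul_right (by omega) _), h44, ← hprod]
      exact mul_dvd_mul_right ⟨k, hk⟩ _
    by_cases h33 : ∃ x ∈ l, x.d = 3
    · obtain ⟨x, hx, hd⟩ := h33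
      obtain ⟨l', h1, h2', -⟩ := split_piece hx
      rw [hd] at h1
      have hwl : wt l' ≤ 1 := by have := x.hc; omega
      have hl' := wt_one hwl
      have hq3 : qq + 1 ∣ qq ^ 3 + 1 := by simpa using Odd.nat_add_dvd_pow_add_pow qq 1 (show Odd 3 by decide)
      have hq3' : qq - 1 ∣ qq ^ 3 - 1 := Nat.sub_one_dvd_pow_sub_one qq 3
      rcases x.ht with ht | ht <;> rw [ht, hd] at h2'
      · refine (flex_mixed (p := p) hodd hab (d := 1) (d' := 3) (Or.inl ⟨rfl, rfl⟩)).mono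
          (hMl.trans (Nat.lcm_dvd (h2'.trans ?_) ((two_dvd_pm hodd 3).1.trans (Nat.dvd_lcm_right _ _))))
        rw [pow_one]
        refine Nat.lcm_dvd (Nat.dvd_lcm_right _ _) ?_
        rcases hl' with h | h
        exacts [(h.trans hq3).trans (Nat.dvd_lcm_right _ _), h.trans (Nat.dvd_lcm_left _ _)]
      · refine (flex_mixed (p := p) hodd hab (d := 3) (d' := 1) (Or.inr ⟨rfl, rfl⟩)).mono
          (hMl.trans (Nat.lcm_dvd (h2'.trans ?_) ((two_dvd_pm hodd 3).2.trans (Nat.dvd_lcm_left _ _))))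
        rw [pow_one]
        refine Nat.lcm_dvd (Nat.dvd_lcm_left _ _) ?_
        rcases hl' with h | h
        exacts [h.trans (Nat.dvd_lcm_right _ _), (h.trans hq3').trans (Nat.dvd_lcm_left _ _)]
    push Not at h44 h33
    refine (flex_half (p := p) hodd hab).mono
      (hMl.trans (Nat.lcm_dvd (tor_dvd fun x hx => ?_) ((two_dvd_pm hodd 2).2.trans (Nat.dvd_lcm_left _ _))))
    have := (piece_bound hx).1
    have := h44 x hx
    have := h33 x hx
    have := x.hd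
    rcases (show x.d = 1 ∨ x.d = 2 by omega) with hd | hd
    · exact (deg_one_dvd x hd).trans (Nat.dvd_lcm_left _ _)
    · rcases x.ht with ht | ht <;> rw [ht, hd]
      exacts [Nat.dvd_lcm_right _ _, Nat.dvd_lcm_left _ _]
  -- a nontrivial unipotent part
  set P := p ^ (τ - 1) with hP
  have hbig : (∃ y ∈ l, P < y.c) ∨ P + 1 < e := by
    by_contra h
    push Not at h
    have h0 := hN P h.1 h.2
    rw [hP, sub_one_pow_prime_pow, sub_eq_zero, ← map_pow, ← map_one (oEnd Q)] at h0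
    have h1 := Nat.le_of_dvd (pow_pos hp.pos _) (huo ▸ orderOf_dvd_of_pow_eq_one (oEnd_injective h0))
    exact absurd h1 (not_le.2 (Nat.pow_lt_pow_right hp.one_lt (by omega)))
  have hyb : ∀ y ∈ l, ∃ l', y.d * y.c + wt l' ≤ 4 ∧ tor l ∣ Nat.lcm y.t (tor l') := fun y hy => by
    obtain ⟨l', h1, h2', -⟩ := split_piece hy
    exact ⟨l', by omega, h2'⟩
  rcases (show τ = 1 ∨ 2 ≤ τ by omega) with rfl | hτ2
  · obtain ⟨t₂, t₁, ht₂, ht₁, hML⟩ : ∃ t₂ t₁, (t₂ = qq ^ 2 + 1 ∨ t₂ = qq ^ 2 - 1) ∧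
        (t₁ = qq ^ 1 + 1 ∨ t₁ = qq ^ 1 - 1) ∧ M ∣ Nat.lcm t₂ t₁ := by
      rw [hP, Nat.sub_self, pow_zero] at hbig
      rcases hbig with ⟨y, hy, hyc⟩ | he3
      · obtain ⟨l', h1, h2'⟩ := hyb y hy
        have hmul := Nat.mul_le_mul_left y.d (show 2 ≤ y.c by omega)
        have := y.hd
        rcases (show y.d = 1 ∨ y.d = 2 by omega) with hd | hd <;> rw [hd] at h1
        · have ht₁ := y.ht
          rw [hd] at ht₁
          rcases wt_two (l := l') (by omega) with h | h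
          · refine ⟨_, y.t, Or.inl rfl, ht₁, hMl.trans (Nat.lcm_dvd (h2'.trans (Nat.lcm_dvd (Nat.dvd_lcm_right _ _)
              (h.trans (Nat.dvd_lcm_left _ _)))) ((two_dvd_pm hodd 2).1.trans (Nat.dvd_lcm_left _ _)))⟩
          · refine ⟨_, y.t, Or.inr rfl, ht₁, hMl.trans (Nat.lcm_dvd (h2'.trans (Nat.lcm_dvd (Nat.dvd_lcm_right _ _)
              (h.trans (Nat.dvd_lcm_left _ _)))) ((two_dvd_pm hodd 2).2.trans (Nat.dvd_lcm_left _ _)))⟩
        · have ht₂ := y.ht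
          rw [hd] at ht₂
          rw [wt_zero (l := l') (by omega), Nat.lcm_one_right] at h2'
          exact ⟨y.t, _, ht₂, ht1, hMl.trans (Nat.lcm_dvd (h2'.trans (Nat.dvd_lcm_left _ _))
            (h2p.trans (Nat.dvd_lcm_right _ _)))⟩
      · rcases wt_two (l := l) (by omega) with h | h
        · exact ⟨_, _, Or.inl rfl, ht1, hMl.trans (Nat.lcm_dvd (h.trans (Nat.dvd_lcm_left _ _))
            (h2p.trans (Nat.dvd_lcm_right _ _)))⟩
        · exact ⟨_, _, Or.inr rfl, ht1, hMl.trans (Nat.lcm_dvd (h.trans (Nat.dvd_lcm_left _ _))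
            (h2p.trans (Nat.dvd_lcm_right _ _)))⟩
    exact fin (flex_tori (p := p) hodd hab (l := 0) (τ := 1) (by norm_num) le_rfl ht₂ ht₁ (by norm_num)
      (by norm_num)) hML
  have hP3 : 3 ≤ P := hp3.trans (Nat.le_self_pow (by omega) _)
  have hPodd : P % 2 = 1 := Nat.odd_iff.1 ((hp.odd_of_ne_two (by omega)).pow)
  rcases Nat.lt_or_ge P 4 with hP4 | hP4
  · obtain ⟨t₁, ht₁, hML⟩ : ∃ t₁, (t₁ = qq ^ 1 + 1 ∨ t₁ = qq ^ 1 - 1) ∧ M ∣ t₁ := by
      rcases hbig with ⟨y, hy, hyc⟩ | he5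
      · obtain ⟨l', h1, h2'⟩ := hyb y hy
        have hmul := Nat.mul_le_mul_left y.d (show 4 ≤ y.c by omega)
        have := y.hd
        have hd : y.d = 1 := by omega
        have ht := y.ht
        rw [hd] at ht h1
        rw [wt_zero (l := l') (by omega), Nat.lcm_one_right] at h2'
        refine ⟨y.t, ht, hMl.trans (Nat.lcm_dvd h2' ?_)⟩
        rcases ht with h | h <;> rw [h, pow_one]
        exacts [h2p, h2m]
      · rcases wt_one (l := l) (by omega) with h | h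
        · exact ⟨_, ht1, hMl.trans (Nat.lcm_dvd h h2p)⟩
        · exact ⟨_, ht1', hMl.trans (Nat.lcm_dvd h h2m)⟩
    exact fin (flex_tori (p := p) hodd hab (l := 1) (τ := τ) le_rfl le_rfl ht₁ ht₁ (by norm_num) hP4)
      (hML.trans (Nat.dvd_lcm_left _ _))
  · have he8 : wt l = 0 ∧ P < 6 := by
      rcases hbig with ⟨y, hy, hyc⟩ | he7
      · have := (piece_bound hy).2
        omega
      · omega
    refine fin (flex_two (p := p) hodd hab he8.2) (hMl.trans ?_)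
    rw [wt_zero he8.1, Nat.lcm_one_left]

end CfsgLib.HallGen.OmegaNineSpectrum
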