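import Cfsg.Agent.Lib.HallGen.OmegaNineSpectrum.Invariants
import Cfsg.Agent.Lib.HallGen.PrimeGraphBC.Isometries
import Cfsg.Agent.Lib.HallGen.SpEightSpectrum.Upper

/-!
# The fixed space of the semisimple part of an isometry
-/

set_option autoImplicit false

namespace CfsgLib.HallGen.OmegaNineSpectrum

open Module
open QuadraticMap (polar polarBilin)
open CfsgLib.Classical.Quad CfsgLib.Known.OmegaCriterion
open CfsgLib.HallGen.PrimeGraphBC (prodHom prodHom_injective conjHom conjHom_injective oEnd oEnd_injective nondeg_prod split)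

variable {F : Type*} [Field F] {V : Type*} [AddCommGroup V] [Module F V] [FiniteDimensional F V]

/-- The restriction of an isometry to an invariant subspace. -/
noncomputable def restrictOQ {Q : QuadraticForm F V} (g : OQ Q) (R : Submodule F V)
    (h : ∀ v ∈ R, oEnd Q g v ∈ R) : OQ (Q.comp R.subtype) :=
  ⟨LinearEquiv.ofInjectiveEndo ((oEnd Q g).restrict h) (fun a b e =>
      Subtype.ext ((g : V ≃ₗ[F] V).injective (congrArg Subtype.val e))),
    fun v _ => OQ.map_apply g (v : V)⟩

theorem restrictOQ_apply {Q : QuadraticForm F V} (g : OQ Q) (R : Submodule F V) (h : ∀ v ∈ R, oEnd Q g v ∈ R)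
    (v : R) : ((oEnd (Q.comp R.subtype) (restrictOQ g R h) v : R) : V) = oEnd Q g v := rfl

theorem restrictOQ_pow {Q : QuadraticForm F V} (g : OQ Q) (R : Submodule F V) (h : ∀ v ∈ R, oEnd Q g v ∈ R)
    (k : ℕ) (v : R) : (((oEnd (Q.comp R.subtype) (restrictOQ g R h) ^ k) v : R) : V) = (oEnd Q g ^ k) v := by
  induction k generalizing v with
  | zero => rfl
  | succ k ih => rw [pow_succ, pow_succ, Module.End.mul_apply, Module.End.mul_apply, ih, restrictOQ_apply]

variable [Finite F]

/-- An isometry splits along the fixed space of its semisimple part. -/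
theorem exists_decomp (h2 : (2 : F) ≠ 0) (p : ℕ) [Fact p.Prime] [CharP F p] {Q : QuadraticForm F V}
    (hQ : (polarBilin Q).Nondegenerate) (g : OQ Q) (hg : 0 < orderOf g) :
    ∃ (R W : Submodule F V) (gR : OQ (Q.comp R.subtype)) (gW : OQ (Q.comp W.subtype)) (M i : ℕ),
      (polarBilin (Q.comp R.subtype)).Nondegenerate ∧ (polarBilin (Q.comp W.subtype)).Nondegenerate ∧
      finrank F R + finrank F W = finrank F V ∧ orderOf g = p ^ i * M ∧ ¬ p ∣ M ∧
      orderOf g = Nat.lcm (orderOf gR) (orderOf gW) ∧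
      par g = par gR + par gW ∧ spinor g = spinor gR * spinor gW ∧
      gW ^ p ^ i = 1 ∧ (∀ r, (oEnd (Q.comp R.subtype) gR ^ p ^ i) r = r → r = 0) ∧
      ((∑ j ∈ Finset.range (orderOf g), oEnd Q g ^ j) ≠ 0 →
        (∑ j ∈ Finset.range (orderOf g), oEnd (Q.comp W.subtype) gW ^ j) ≠ 0) := by
  have hp : p.Prime := Fact.out
  obtain ⟨i, M, hM, hord⟩ := Nat.exists_eq_pow_mul_and_not_dvd hg.ne' p hp.ne_one
  set a := oEnd Q (g ^ p ^ i) with ha
  have haM : a ^ M = 1 := by rw [ha, ← map_pow, ← pow_mul, ← hord, pow_orderOf_eq_one, map_one]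
  obtain ⟨hc, horth, hndR, hinv, hfix⟩ := split (B := polarBilin Q) hQ.1
    (fun x y h => (QuadraticMap.polar_comm _ y x).trans h) a (fun x y => OQ.map_polar (g ^ p ^ i) x y)
    (fun h => hM ((CharP.cast_eq_zero_iff F p M).1 h)) haM
  set R := LinearMap.range (a - 1)
  set W := LinearMap.ker (a - 1)
  obtain ⟨hR, hW⟩ := hinv (oEnd Q g) (((Commute.refl g).pow_right _).map (oEnd Q))
  have hpR : ∀ x y : R, polar (Q.comp R.subtype) x y = polar Q (x : V) y := fun x y => by simp [polar]
  have hpW : ∀ x y : W, polar (Q.comp W.subtype) x y = polar Q (x : V) y := fun x y => by simp [polar]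
  have hRn : (polarBilin (Q.comp R.subtype)).Nondegenerate := nondegenerate_of_left fun x hx =>
    Subtype.ext (hndR x x.2 fun y hy => by
      have := hx ⟨y, hy⟩
      rw [hpR] at this
      exact this)
  have hWn : (polarBilin (Q.comp W.subtype)).Nondegenerate := nondegenerate_of_left fun x hx => by
    refine Subtype.ext (hQ.1 _ fun y => ?_)
    obtain ⟨r, hr, w, hw, rfl⟩ := Submodule.mem_sup.1 (hc.sup_eq_top.ge (Submodule.mem_top (x := y)))
    have h1 : polar Q (x : V) w = 0 := (hpW x ⟨w, hw⟩).symm.trans (hx ⟨w, hw⟩)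
    show polar Q (x : V) (r + w) = 0
    rw [QuadraticMap.polar_add_right, h1, QuadraticMap.polar_comm, show polar Q r (x : V) = 0 from horth r hr _ x.2,
      add_zero]
  let E := Submodule.prodEquivOfIsCompl R W hc
  set gR := restrictOQ g R hR
  set gW := restrictOQ g W hW
  have hE : ∀ z : R × W, Q (E z) = 1 * ((Q.comp R.subtype).prod (Q.comp W.subtype)) z := fun z => by
    have h1 : polar Q (z.1 : V) z.2 = 0 := horth _ z.1.2 _ z.2.2
    rw [one_mul]
    show Q ((z.1 : V) + z.2) = Q z.1 + Q z.2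
    rw [apply_add, h1, add_zero]
  have hgE : g = conjHom E 1 hE (prodHom _ _ (gR, gW)) := by
    refine Subtype.ext (LinearEquiv.ext fun v => ?_)
    obtain ⟨z, rfl⟩ := E.surjective v
    show oEnd Q g (E z) = E ((prodHom _ _ (gR, gW) : OQ _).1 (E.symm (E z)))
    rw [E.symm_apply_apply]
    show oEnd Q g ((z.1 : V) + z.2) = oEnd Q g z.1 + oEnd Q g z.2
    rw [map_add]
  have hP := nondeg_prod hRn hWn
  obtain ⟨h1, h1'⟩ := invs_conjHom h2 hP hQ E hE (prodHom _ _ (gR, gW))
  obtain ⟨h3, h3'⟩ := invs_prodHom h2 hRn hWn gR gW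
  rw [← hgE] at h1 h1'
  have hoE : orderOf g = Nat.lcm (orderOf gR) (orderOf gW) := by
    conv_lhs => rw [hgE]
    rw [orderOf_injective _ (conjHom_injective E 1 hE), orderOf_injective _ (prodHom_injective _ _), Prod.orderOf_mk]
  refine ⟨R, W, gR, gW, M, i, hRn, hWn, Submodule.finrank_add_eq_of_isCompl hc, hord, hM, hoE, h1.trans h3,
    h1'.trans h3', ?_, fun r hr => ?_, fun hne h0 => hne (LinearMap.ext fun v => ?_)⟩
  · refine oEnd_injective (LinearMap.ext fun w => Subtype.ext ?_)
    rw [map_pow, map_one, restrictOQ_pow, ← map_pow]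
    have := w.2
    rwa [LinearMap.mem_ker, LinearMap.sub_apply, Module.End.one_apply, sub_eq_zero] at this
  · refine Subtype.ext (hfix _ r.2 ?_)
    rw [ha, map_pow, ← restrictOQ_pow g R hR, hr]
  · obtain ⟨r, hr, w, hw, rfl⟩ := Submodule.mem_sup.1 (hc.sup_eq_top.ge (Submodule.mem_top (x := v)))
    rw [map_add, LinearMap.zero_apply]
    have hw' : (∑ j ∈ Finset.range (orderOf g), oEnd Q g ^ j) w = 0 := by
      have h4 := congrArg Subtype.val (LinearMap.congr_fun h0 ⟨w, hw⟩)
      rw [LinearMap.sum_apply, AddSubmonoidClass.coe_finsetSum,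
        Finset.sum_congr rfl fun j _ => restrictOQ_pow g W hW j ⟨w, hw⟩] at h4
      rw [LinearMap.sum_apply]
      exact h4.trans rfl
    rw [hw', add_zero]
    refine hfix _ ?_ ?_
    · rw [LinearMap.sum_apply]
      exact Submodule.sum_mem _ fun j _ => by
        rw [← restrictOQ_pow g R hR j ⟨r, hr⟩]; exact Subtype.mem _
    · have hfixg : oEnd Q g ((∑ j ∈ Finset.range (orderOf g), oEnd Q g ^ j) r) =
          (∑ j ∈ Finset.range (orderOf g), oEnd Q g ^ j) r := by
        have h4 := mul_geom_sum (oEnd Q g) (orderOf g)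
        rw [← map_pow, pow_orderOf_eq_one, map_one, sub_self] at h4
        exact sub_eq_zero.1 (LinearMap.congr_fun h4 r)
      rw [ha, map_pow]
      generalize p ^ i = k
      induction k with
      | zero => rfl
      | succ k ih => rw [pow_succ, Module.End.mul_apply, hfixg, ih]

end CfsgLib.HallGen.OmegaNineSpectrum
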