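import Cfsg.Agent.Lib.HallGen.PrimeGraphBC.Orthogonal
import Cfsg.Agent.Lib.HallGen.PrimeGraphBC.OrthUpper
import Cfsg.Agent.Lib.Known.OmegaCriterion
import Cfsg.Agent.Lib.Classical.Quad.PlusMinusType

/-!
# Discriminant, parity and spinor norm in odd characteristic
-/

set_option autoImplicit false

namespace CfsgLib.HallGen.OmegaNineSpectrum

open Module
open QuadraticMap (polar polarBilin)
open CfsgLib.Classical.Quad CfsgLib.Known.OmegaCriterion
open CfsgLib.HallGen.PrimeGraphBC (prodHom conjHom oEnd nondeg_prod)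

variable {F : Type*} [Field F]
variable {V W : Type*} [AddCommGroup V] [Module F V] [AddCommGroup W] [Module F W]
variable [FiniteDimensional F V] [FiniteDimensional F W]

/-- The square class of the Gram determinant of the polar form. -/
noncomputable def disc (Q : QuadraticForm F V) : SqClass F :=
  sqc (LinearMap.BilinForm.toMatrix (Module.finBasis F V) (polarBilin Q)).det

theorem det_gram_ne_zero {Q : QuadraticForm F V} (hQ : (polarBilin Q).Nondegenerate) {ι : Type*} [Fintype ι]
    [DecidableEq ι] (b : Basis ι F V) : (LinearMap.BilinForm.toMatrix b (polarBilin Q)).det ≠ 0 :=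
  (LinearMap.BilinForm.nondegenerate_iff_det_ne_zero b).1 hQ

/-- The discriminant may be computed in any basis of an isometric space. -/
theorem disc_eq {Q : QuadraticForm F V} {R : QuadraticForm F W} (hR : (polarBilin R).Nondegenerate)
    (E : V ≃ₗ[F] W) (hE : ∀ v, R (E v) = Q v) {ι : Type*} [Fintype ι] [DecidableEq ι] (b : Basis ι F W) :
    disc Q = sqc (LinearMap.BilinForm.toMatrix b (polarBilin R)).det := by
  let e : Fin (finrank F V) ≃ ι := ((Module.finBasis F V).map E).indexEquiv b
  have h := det_gram_of_isometry (Module.finBasis F V) (b.reindex e.symm) (polarBilin Q) (polarBilin R) E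
    (fun u v => show polar R (E u) (E v) = polar Q u v by simp only [polar, ← map_add, hE])
  have hr : LinearMap.BilinForm.toMatrix (b.reindex e.symm) (polarBilin R) =
      (LinearMap.BilinForm.toMatrix b (polarBilin R)).submatrix e e := by
    ext i j; simp [LinearMap.BilinForm.toMatrix_apply]
  rw [hr, Matrix.det_submatrix_equiv_self] at h
  generalize (LinearMap.toMatrix (Module.finBasis F V) (b.reindex e.symm) (E : V →ₗ[F] W)).det = P at h
  have hd := det_gram_ne_zero hR b
  have hP : P ≠ 0 := by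
    intro h0
    rw [h0] at h
    have hQ : (polarBilin Q).Nondegenerate :=
      nondegenerate_of_left fun x hx => E.injective ((hR.1 (E x) fun y => by
        have h1 : polar Q x (E.symm y) = 0 := hx (E.symm y)
        show polar R (E x) y = 0
        rw [← h1, ← E.apply_symm_apply y, E.symm_apply_apply]
        simp only [polar, ← map_add, hE]).trans (map_zero E).symm)
    exact det_gram_ne_zero hQ (Module.finBasis F V) (h.trans (by ring))
  rw [disc, h, pow_two, mul_right_comm, sqc_sq_mul hP hd]

theorem disc_eq_basis {Q : QuadraticForm F V} (hQ : (polarBilin Q).Nondegenerate) {ι : Type*} [Fintype ι]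
    [DecidableEq ι] (b : Basis ι F V) : disc Q = sqc (LinearMap.BilinForm.toMatrix b (polarBilin Q)).det :=
  disc_eq hQ (LinearEquiv.refl F V) (fun _ => rfl) b

theorem disc_congr {Q : QuadraticForm F V} {R : QuadraticForm F W} (hR : (polarBilin R).Nondegenerate)
    (E : V ≃ₗ[F] W) (hE : ∀ v, R (E v) = Q v) : disc Q = disc R :=
  disc_eq hR E hE _

theorem disc_prod {Q : QuadraticForm F V} {R : QuadraticForm F W} (hQ : (polarBilin Q).Nondegenerate)
    (hR : (polarBilin R).Nondegenerate) : disc (Q.prod R) = disc Q * disc R := by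
  rw [disc_eq_basis (nondeg_prod hQ hR) ((Module.finBasis F V).prod (Module.finBasis F W)), disc, disc,
    ← sqc_mul (det_gram_ne_zero hQ _) (det_gram_ne_zero hR _)]
  congr 1
  rw [← Matrix.det_fromBlocks_zero₂₁ _ 0 _]
  congr 1
  ext (i | i) (j | j) <;> simp [LinearMap.BilinForm.toMatrix_apply, polar]

variable [Finite F] (h2 : (2 : F) ≠ 0)
include h2

theorem reflGroup_top {Q : QuadraticForm F V} (hQ : (polarBilin Q).Nondegenerate) : reflGroup Q = ⊤ :=
  reflGroup_eq_top hQ (Or.inl ⟨-1, by simp, fun h => h2 (by linear_combination -h)⟩)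

/-- Nondegenerate spaces with the same dimension and discriminant are isometric. -/
theorem exists_equiv {Q : QuadraticForm F V} {R : QuadraticForm F W} (hQ : (polarBilin Q).Nondegenerate)
    (hR : (polarBilin R).Nondegenerate) (hd : finrank F V = finrank F W) (h : disc Q = disc R) :
    ∃ E : V ≃ₗ[F] W, ∀ v, R (E v) = Q v := by
  rcases Nat.eq_zero_or_pos (finrank F V) with h0 | h0
  · haveI := Module.finrank_zero_iff.1 h0
    haveI : Subsingleton V := ‹_›
    haveI : Subsingleton W := Module.finrank_zero_iff.1 (hd ▸ h0)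
    exact ⟨LinearEquiv.ofSubsingleton _ _, fun v => by
      rw [Subsingleton.elim v 0, map_zero, QuadraticMap.map_zero, QuadraticMap.map_zero]⟩
  obtain ⟨n, hn⟩ : ∃ n, finrank F V = n + 1 := ⟨_, (Nat.sub_add_cancel h0).symm⟩
  set x := (LinearMap.BilinForm.toMatrix (Module.finBasis F V) (polarBilin Q)).det with hx
  set y := (LinearMap.BilinForm.toMatrix (Module.finBasis F W) (polarBilin R)).det with hy
  have hx0 : x ≠ 0 := det_gram_ne_zero hQ _
  have hy0 : y ≠ 0 := det_gram_ne_zero hR _
  have hsq : IsSquare (x * y) := by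
    rw [← sqc_eq_one_iff (mul_ne_zero hx0 hy0), sqc_mul hx0 hy0]
    rw [disc, disc, ← hx, ← hy] at h
    rw [h, sqc_mul_self]
  obtain ⟨E, hE⟩ := exists_isometry_of_det h2 ⟨fun u v => QuadraticMap.polar_comm _ u v⟩ hQ
    ⟨fun u v => QuadraticMap.polar_comm _ u v⟩ hR (Module.finBasis F V) (Module.finBasis F W) hn (hd ▸ hn) hsq
  refine ⟨E, fun v => mul_left_cancel₀ h2 ?_⟩
  have h1 : polar R (E v) (E v) = polar Q v v := hE v v
  rwa [polar_self', polar_self'] at h1

/-- The invariants as a homomorphism agree with those of reflections. -/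
theorem invHom_comp {Q : QuadraticForm F V} {R : QuadraticForm F W} (hQ : (polarBilin Q).Nondegenerate)
    (hR : (polarBilin R).Nondegenerate) (φ : OQ Q →* OQ R) (E : V → W)
    (hv : ∀ (v : V) (_ : Q v ≠ 0), R (E v) = Q v)
    (hφ : ∀ (v : V) (h : Q v ≠ 0) (h' : R (E v) ≠ 0), φ (refl h) = refl h') (g : OQ Q) :
    par (φ g) = par g ∧ spinor (φ g) = spinor g := by
  have key : (invHom hR (reflGroup_top h2 hR)).comp φ = invHom hQ (reflGroup_top h2 hQ) := by
    refine MonoidHom.eq_of_eqOn_dense (s := {r | ∃ (v : V) (hv : Q v ≠ 0), r = refl hv}) (reflGroup_top h2 hQ) ?_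
    rintro _ ⟨v, h, rfl⟩
    have h' : R (E v) ≠ 0 := (hv v h).trans_ne h
    rw [MonoidHom.comp_apply, hφ v h h', invHom_refl, invHom_refl, hv v h]
  have h := DFunLike.congr_fun key g
  have h' : invariants (φ g) = invariants g := h
  rw [invariants_eq, invariants_eq, Prod.ext_iff] at h'
  exact ⟨Multiplicative.ofAdd.injective h'.1, h'.2⟩

theorem invs_conjHom {Q : QuadraticForm F V} {R : QuadraticForm F W} (hQ : (polarBilin Q).Nondegenerate)
    (hR : (polarBilin R).Nondegenerate) (E : V ≃ₗ[F] W) (hE : ∀ v, R (E v) = 1 * Q v) (g : OQ Q) :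
    par (conjHom E 1 hE g) = par g ∧ spinor (conjHom E 1 hE g) = spinor g := by
  refine invHom_comp h2 hQ hR (conjHom E 1 hE) E (fun v _ => by rw [hE, one_mul]) (fun v h h' => ?_) g
  refine Subtype.ext (LinearEquiv.ext fun w => ?_)
  show E (((refl h : OQ Q) : V ≃ₗ[F] V) (E.symm w)) = ((refl h' : OQ R) : W ≃ₗ[F] W) w
  obtain ⟨z, rfl⟩ := E.surjective w
  rw [E.symm_apply_apply, refl_apply, refl_apply, map_sub, map_smul]
  simp only [polar, ← map_add, hE, one_mul]

theorem invs_prodHom {Q : QuadraticForm F V} {R : QuadraticForm F W} (hQ : (polarBilin Q).Nondegenerate)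
    (hR : (polarBilin R).Nondegenerate) (g : OQ Q) (h : OQ R) :
    par (prodHom Q R (g, h)) = par g + par h ∧ spinor (prodHom Q R (g, h)) = spinor g * spinor h := by
  have hP := nondeg_prod hQ hR
  have h1 := invHom_comp h2 hQ hP ((prodHom Q R).comp (MonoidHom.inl _ _)) (fun v => (v, 0))
    (fun v _ => by simp) (fun v hv hv' => Subtype.ext (LinearEquiv.ext fun z => by
      show ((((refl hv : OQ Q) : V ≃ₗ[F] V) z.1, z.2) : V × W) = _
      rw [refl_apply, refl_apply]
      ext <;> simp [polar]))
    g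
  have h3 := invHom_comp h2 hR hP ((prodHom Q R).comp (MonoidHom.inr _ _)) (fun w => (0, w))
    (fun v _ => by simp) (fun v hv hv' => Subtype.ext (LinearEquiv.ext fun z => by
      show ((z.1, ((refl hv : OQ R) : W ≃ₗ[F] W) z.2) : V × W) = _
      rw [refl_apply, refl_apply]
      ext <;> simp [polar]))
    h
  have e : prodHom Q R (g, h) = prodHom Q R (g, 1) * prodHom Q R (1, h) := by
    rw [← map_mul, Prod.mk_mul_mk, mul_one, one_mul]
  rw [e, par_mul hP (reflGroup_top h2 hP), spinor_mul hP (reflGroup_top h2 hP)]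
  exact ⟨congrArg₂ (· + ·) h1.1 h3.1, congrArg₂ (· * ·) h1.2 h3.2⟩

theorem invs_of_odd {Q : QuadraticForm F V} (hQ : (polarBilin Q).Nondegenerate) {g : OQ Q} {k : ℕ} (hk : Odd k)
    (hg : g ^ k = 1) : par g = 0 ∧ spinor g = 1 := by
  have h := congrArg (invHom hQ (reflGroup_top h2 hQ)) hg
  rw [map_pow, map_one] at h
  obtain ⟨c, rfl⟩ := hk
  have hsq : ∀ y : Multiplicative (ZMod 2) × SqClass F, y ^ 2 = 1 := fun y => by
    refine Prod.ext ?_ ?_
    · show y.1 ^ 2 = 1
      generalize y.1 = a
      revert a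
      decide
    · exact (pow_two _).trans (sqClass_mul_self _)
  rw [pow_succ, pow_mul, hsq, one_pow, one_mul] at h
  exact (invariants_eq_one_iff g).1 h

/-- An isometry without fixed vectors. -/
theorem invs_fpf {Q : QuadraticForm F V} (hQ : (polarBilin Q).Nondegenerate) (g : OQ Q)
    (hfix : ∀ v, oEnd Q g v = v → v = 0) :
    par g = (finrank F V : ZMod 2) ∧ spinor g = disc Q * sqc (LinearMap.det (1 - oEnd Q g)) := by
  set T : Module.End F V := 1 - oEnd Q g with hT
  have hTinj : Function.Injective T := by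
    rw [injective_iff_map_eq_zero]
    intro v hv
    rw [hT, LinearMap.sub_apply, Module.End.one_apply, sub_eq_zero] at hv
    exact hfix v hv.symm
  have hmm : ∀ v, movMap g v = T v := fun v => rfl
  let Te := LinearEquiv.ofInjectiveEndo T hTinj
  have htop : mov g = ⊤ := by
    refine eq_top_iff.2 fun v _ => ⟨Te.symm v, ?_⟩
    rw [hmm]
    exact Te.apply_symm_apply v
  refine ⟨by rw [par, htop, finrank_top], ?_⟩
  set b := Module.finBasis F V with hb
  rw [spinor_eq hQ g (x := b) (z := fun i => Te.symm (b i)) b.linearIndependent (by rw [b.span_eq, htop])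
    (fun i => by rw [hmm]; exact Te.apply_symm_apply (b i))]
  have hw : wallMat Q (fun i => b i) (fun i => Te.symm (b i)) =
      (LinearMap.toMatrix b b (Te.symm : V →ₗ[F] V)).transpose * LinearMap.BilinForm.toMatrix b (polarBilin Q) := by
    ext i j
    rw [wallMat, Matrix.of_apply, Matrix.mul_apply]
    conv_lhs => rw [← b.sum_repr (Te.symm (b i))]
    rw [← QuadraticMap.polarBilin_apply_apply, map_sum, LinearMap.sum_apply]
    refine Finset.sum_congr rfl fun k _ => ?_
    rw [map_smul, LinearMap.smul_apply, smul_eq_mul, Matrix.transpose_apply, LinearMap.toMatrix_apply,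
      LinearMap.BilinForm.toMatrix_apply]
    rfl
  have hdT : LinearMap.det T ≠ 0 := by
    intro h0
    exact (LinearMap.bot_lt_ker_of_det_eq_zero h0).ne' (LinearMap.ker_eq_bot.2 hTinj)
  have hinv : LinearMap.det (Te.symm : V →ₗ[F] V) = (LinearMap.det T)⁻¹ := by
    refine eq_inv_of_mul_eq_one_left ?_
    rw [← map_mul, show (Te.symm : V →ₗ[F] V) * T = 1 from LinearMap.ext fun v => Te.symm_apply_apply v, map_one]
  rw [hw, Matrix.det_mul, Matrix.det_transpose, LinearMap.det_toMatrix, hinv,
    sqc_mul (inv_ne_zero hdT) (det_gram_ne_zero hQ b), mul_comm, disc_eq_basis hQ b]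
  congr 1
  have hii : sqc (LinearMap.det T)⁻¹ * sqc (LinearMap.det T) = 1 := by
    rw [← sqc_mul (inv_ne_zero hdT) hdT, inv_mul_cancel₀ hdT, sqc_one]
  calc sqc (LinearMap.det T)⁻¹
      = sqc (LinearMap.det T)⁻¹ * (sqc (LinearMap.det T) * sqc (LinearMap.det T)) := by rw [sqc_mul_self, mul_one]
    _ = sqc (LinearMap.det T) := by rw [← mul_assoc, hii, one_mul]

omit [FiniteDimensional F V] [FiniteDimensional F W] in
theorem sqc_eq_one_iff_pow [Fintype F] {x : F} (hx : x ≠ 0) : sqc x = 1 ↔ x ^ (Fintype.card F / 2) = 1 := by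
  have hc : ringChar F ≠ 2 := fun h => h2 (by have := ringChar.eq_iff.1 h; exact CharTwo.two_eq_zero)
  rw [sqc_eq_one_iff hx]
  exact FiniteField.isSquare_iff hc hx

omit [FiniteDimensional F V] [FiniteDimensional F W] in
theorem sqc_ne_one_iff_pow [Fintype F] {x : F} (hx : x ≠ 0) : sqc x ≠ 1 ↔ x ^ (Fintype.card F / 2) = -1 := by
  have hc : ringChar F ≠ 2 := fun h => h2 (by have := ringChar.eq_iff.1 h; exact CharTwo.two_eq_zero)
  rw [Ne, sqc_eq_one_iff_pow h2 hx]
  constructor
  · exact (FiniteField.pow_dichotomy hc hx).resolve_left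
  · intro h h'
    rw [h'] at h
    exact h2 (by linear_combination h)

omit [FiniteDimensional F V] [FiniteDimensional F W] in
theorem eq_of_ne_one {a b : SqClass F} (ha : a ≠ 1) (hb : b ≠ 1) : a = b := by
  obtain ⟨x, hx, rfl⟩ := exists_sqc_eq a
  obtain ⟨y, hy, rfl⟩ := exists_sqc_eq b
  haveI := Fintype.ofFinite F
  have h : sqc (x * y) = 1 := by
    rw [sqc_eq_one_iff_pow h2 (mul_ne_zero hx hy), mul_pow, (sqc_ne_one_iff_pow h2 hx).1 ha,
      (sqc_ne_one_iff_pow h2 hy).1 hb, neg_one_mul, neg_neg]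
  rw [sqc_mul hx hy] at h
  calc sqc x = sqc x * (sqc y * sqc y) := by rw [sqc_mul_self, mul_one]
    _ = sqc y := by rw [← mul_assoc, h, one_mul]

end CfsgLib.HallGen.OmegaNineSpectrum
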