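import Cfsg.Agent.Lib.HallGen.OmegaNineSpectrum.Cases
import Cfsg.Agent.Lib.HallGen.OmegaNineSpectrum.Decomp

/-!
# The spectra of `Ω 9` and of the affine `Ω⁻ 8`
-/

set_option autoImplicit false

namespace CfsgLib.HallGen.OmegaNineSpectrum

open Module
open QuadraticMap (polar polarBilin)
open CfsgLib.Classical.Quad CfsgLib.Known.OmegaCriterion
open CfsgLib.HallGen.PrimeGraphBC (prodHom prodHom_injective oEnd oEnd_injective nondeg_prod mem_range_of_commutator)

variable {F : Type*} [Field F] [Fintype F]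

local notation "qq" => Fintype.card F

theorem finite_isometries {V : Type*} [AddCommGroup V] [Module F V] [FiniteDimensional F V]
    (Q : QuadraticForm F V) : Finite (OQ Q) := by
  haveI : Finite V := Module.finite_of_finite F
  exact Finite.of_injective (fun x => ⇑(oEnd Q x)) fun _ _ h => oEnd_injective (DFunLike.coe_injective h)

variable {p : ℕ} [Fact p.Prime] [CharP F p] {a b : F}

theorem odd_char (hodd : Odd qq) (k : ℕ) : Odd (p ^ k) := by
  refine Odd.pow ((Fact.out : p.Prime).odd_of_ne_two ?_)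
  rintro rfl
  exact two_ne (F := F) hodd (by exact_mod_cast CharP.cast_eq_zero F 2)

/-- Element orders of the nine-dimensional group occur in the affine group. -/
theorem flex_of_nine (hodd : Odd qq) (hab : ∀ z₁ z₂ : F, z₁ ^ 2 + a * z₁ * z₂ + b * z₂ ^ 2 = 0 → z₁ = 0 ∧ z₂ = 0)
    {V : Type*} [AddCommGroup V] [Module F V] [FiniteDimensional F V] {Q : QuadraticForm F V}
    (hQ : (polarBilin Q).Nondegenerate) (hV : finrank F V = 9) (g : OQ Q) (hg : g ∈ commutator (OQ Q)) :
    Flex p (qMinus 3 F a b) (orderOf g) := by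
  have hp : p.Prime := Fact.out
  have h2 := two_ne (F := F) hodd
  haveI := finite_isometries Q
  obtain ⟨hpar, hsp⟩ := (mem_commutator_iff hQ (reflGroup_top h2 hQ) g).1 hg
  obtain ⟨R, W, gR, gW, M, i, hR, hW, hdim, hord, hM, hlcm, hpp, hss, hWi, hfix, -⟩ :=
    exists_decomp h2 p hQ g (orderOf_pos g)
  obtain ⟨hWp, hWs⟩ := invs_of_odd h2 hW (odd_char hodd i) hWi
  obtain ⟨hRp, -⟩ := invs_fpf h2 hR gR fun r hr => hfix r (by
    have : ∀ k : ℕ, (oEnd (Q.comp R.subtype) gR ^ k) r = r := fun k => by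
      induction k with
      | zero => rfl
      | succ k ih => rw [pow_succ, Module.End.mul_apply, hr, ih]
    exact this _)
  rw [hWp, add_zero, hpar] at hpp
  rw [hWs, mul_one, hsp] at hss
  have hReven : Even (finrank F R) := by
    rw [← ZMod.natCast_eq_zero_iff_even, ← hRp, ← hpp]
  rw [hV] at hdim
  obtain ⟨j, -, hj⟩ := (Nat.dvd_prime_pow hp).1 (orderOf_dvd_of_pow_eq_one hWi)
  set w := finrank F W with hw
  have hwodd : w % 2 = 1 := by
    rw [Nat.even_iff] at hReven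
    omega
  haveI : Nontrivial W := Module.nontrivial_of_finrank_pos (R := F) (by omega)
  have hjw : j = 0 ∨ p ^ (j - 1) < w := by
    refine or_iff_not_imp_left.2 fun hj0 => not_le.1 fun hle => ?_
    have h0 := SpEightSpectrum.nilpotent_pow_finrank (T := oEnd (Q.comp W.subtype) gW - 1)
      ⟨p ^ j, by rw [sub_one_pow_prime_pow, ← map_pow, ← hj, pow_orderOf_eq_one, map_one, sub_self]⟩ hle
    rw [sub_one_pow_prime_pow, sub_eq_zero, ← map_pow, ← map_one (oEnd (Q.comp W.subtype))] at h0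
    have h1 := Nat.le_of_dvd (pow_pos hp.pos _) (hj ▸ orderOf_dvd_of_pow_eq_one (oEnd_injective h0))
    exact absurd h1 (not_le.2 (Nat.pow_lt_pow_right hp.one_lt (by omega)))
  have hgR : 0 < orderOf gR := by
    haveI := finite_isometries (Q.comp R.subtype)
    exact orderOf_pos gR
  rcases (show w = 1 ∨ 3 ≤ w by omega) with h1 | h3
  · have hj0 : j = 0 := by
      rcases hjw with h | h
      · exact h
      · have := Nat.one_le_pow (j - 1) p hp.pos
        omega
    rw [hlcm, hj, hj0, pow_zero, Nat.lcm_one_right]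
    rw [hj, hj0, pow_zero, Nat.lcm_one_right, hord] at hlcm
    by_cases hd : disc (Q.comp R.subtype) = 1
    · rw [← hlcm]
      exact flex_eight hodd hab hR (by omega) hd gR hlcm.symm
        (Nat.pos_of_ne_zero fun h => hM (h.symm ▸ dvd_zero p)) hM hss.symm hfix
    · exact flex_minus h2 hab hR (by omega) hd
        ⟨gR, (mem_commutator_iff hR (reflGroup_top h2 hR) gR).2 ⟨hpp.symm, hss.symm⟩, Or.inl dvd_rfl⟩
  · rw [hlcm, hj]
    obtain ⟨l, hl⟩ : ∃ l, w = 2 * l + 3 := ⟨(w - 3) / 2, by omega⟩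
    refine realize h2 hab hR gR ⟨hpp.symm, hss.symm⟩ hgR (l := l) (by omega) ?_
    rcases hjw with h | h
    · rw [h, Nat.zero_sub, pow_zero]
      omega
    · have := Nat.odd_iff.1 (odd_char (p := p) hodd (j - 1))
      omega

/-- Element orders of the affine group occur in the nine-dimensional group. -/
theorem nine_of_flex (hodd : Odd qq) (hab : ∀ z₁ z₂ : F, z₁ ^ 2 + a * z₁ * z₂ + b * z₂ ^ 2 = 0 → z₁ = 0 ∧ z₂ = 0)
    {n : ℕ} (h : Flex p (qMinus 3 F a b) n) :
    n ∈ Set.range (orderOf : Cfsg.POmega F (Cfsg.quadFormOdd 4 F) → ℕ) := by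
  have hp : p.Prime := Fact.out
  have h2 := two_ne (F := F) hodd
  have hQ := qMinus_nondeg hab 3
  haveI := finite_isometries (qMinus 3 F a b)
  have hdiv : ∀ L : ℕ, 0 < L → n ∣ L →
      L ∈ Set.range (orderOf : Cfsg.POmega F (Cfsg.quadFormOdd 4 F) → ℕ) →
      n ∈ Set.range (orderOf : Cfsg.POmega F (Cfsg.quadFormOdd 4 F) → ℕ) := by
    rintro L hL hn ⟨y, rfl⟩
    exact ⟨y ^ (orderOf y / n), orderOf_pow_orderOf_div hL.ne' hn⟩
  obtain ⟨x, hx, h | ⟨hs, h⟩⟩ := h
  · let L : QuadraticForm F F := QuadraticMap.sq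
    have hL : (polarBilin L).Nondegenerate := nondegenerate_of_left fun z hz => by
      have h1 : polar L z 1 = 0 := hz 1
      simp only [polar, L, QuadraticMap.sq_apply] at h1
      exact (mul_eq_zero.1 (show (2 : F) * z = 0 by linear_combination h1)).resolve_left h2
    have hP := nondeg_prod hQ hL
    obtain ⟨hp1, hs1⟩ := invs_prodHom h2 hQ hL x 1
    obtain ⟨hxp, hxs⟩ := (mem_commutator_iff hQ (reflGroup_top h2 hQ) x).1 hx
    refine hdiv _ (orderOf_pos x) h (mem_range_of_commutator hodd (by norm_num) (by simp [Module.finrank_prod]) _ hP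
      (g := prodHom _ L (x, 1)) ((mem_commutator_iff hP (reflGroup_top h2 hP) _).2 ⟨?_, ?_⟩) ?_)
    · rw [hp1, hxp, par_one hL, add_zero]
    · rw [hs1, hxs, spinor_one hL, mul_one]
    · rw [orderOf_injective _ (prodHom_injective _ L), Prod.orderOf_mk, orderOf_one, Nat.lcm_one_right]
  obtain ⟨R, W, gR, gW, M, i, hR, hW, hdim, hord, hM, hlcm, hpp, hss, hWi, hfix, hsum⟩ :=
    exists_decomp h2 p hQ x (orderOf_pos x)
  obtain ⟨hWp, hWs⟩ := invs_of_odd h2 hW (odd_char hodd i) hWi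
  obtain ⟨hRp, -⟩ := invs_fpf h2 hR gR fun r hr => hfix r (by
    have : ∀ k : ℕ, (oEnd ((qMinus 3 F a b).comp R.subtype) gR ^ k) r = r := fun k => by
      induction k with
      | zero => rfl
      | succ k ih => rw [pow_succ, Module.End.mul_apply, hr, ih]
    exact this _)
  obtain ⟨hxp, hxs⟩ := (mem_commutator_iff hQ (reflGroup_top h2 hQ) x).1 hx
  rw [hWp, add_zero, hxp] at hpp
  rw [hWs, mul_one, hxs] at hss
  have hReven : Even (finrank F R) := by
    rw [← ZMod.natCast_eq_zero_iff_even, ← hRp, ← hpp]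
  rw [Module.finrank_pi, show Fintype.card ((Fin 3 ⊕ Fin 3) ⊕ Fin 2) = 8 from rfl] at hdim
  have hne := hsum hs
  rw [hord, sum_periodic (by rw [← map_pow, hWi, map_one]), geom_pow] at hne
  set w := finrank F W with hw
  haveI : Nontrivial W := by
    by_contra hsub
    rw [not_nontrivial_iff_subsingleton] at hsub
    exact hne (LinearMap.ext fun v => Subsingleton.elim _ _)
  have hiw : p ^ i - 1 < w := by
    by_contra hle
    refine hne ?_
    have hnil : IsNilpotent (oEnd ((qMinus 3 F a b).comp W.subtype) gW - 1) :=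
      ⟨p ^ i, by rw [sub_one_pow_prime_pow, ← map_pow, hWi, map_one]; exact sub_self (1 : Module.End F W)⟩
    rw [SpEightSpectrum.nilpotent_pow_finrank hnil (not_lt.1 hle), smul_zero]
  obtain ⟨l, hl⟩ : ∃ l, w = 2 * l := ⟨w / 2, by rw [Nat.even_iff] at hReven; omega⟩
  obtain ⟨Q', U, hQ', ⟨j, hj⟩, hch⟩ := exists_regular (F := F) (p := p) h2 l
  have hij : i < j := by
    by_contra hle
    haveI : Nontrivial (Fin (2 * l + 1) → F) := Function.nontrivial
    refine hch (p ^ i) (by have := Nat.one_le_pow i p hp.pos; omega) ?_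
    rw [sub_one_pow_prime_pow, ← map_pow, sub_eq_zero, ← map_one (oEnd Q')]
    congr 1
    exact orderOf_dvd_iff_pow_eq_one.1 (hj ▸ pow_dvd_pow p (not_lt.1 hle))
  obtain ⟨hUp, hUs⟩ := invs_of_odd h2 hQ' (odd_char hodd j) (g := U) (hj ▸ pow_orderOf_eq_one U)
  obtain ⟨hp1, hs1⟩ := invs_prodHom h2 hR hQ' gR U
  have hP := nondeg_prod hR hQ'
  haveI := finite_isometries ((qMinus 3 F a b).comp R.subtype)
  have hgR : 0 < orderOf gR := orderOf_pos gR
  refine hdiv (Nat.lcm (orderOf gR) (p ^ j)) (Nat.lcm_pos hgR (pow_pos hp.pos _)) (h.trans ?_)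
    (mem_range_of_commutator hodd (by norm_num) ?_ _ hP (g := prodHom _ Q' (gR, U))
      ((mem_commutator_iff hP (reflGroup_top h2 hP) _).2 ⟨?_, ?_⟩) ?_)
  · have hMR : M ∣ orderOf gR := by
      have h1 : M ∣ Nat.lcm (orderOf gR) (p ^ i) :=
        (hord ▸ dvd_mul_left M (p ^ i) : M ∣ orderOf x).trans
          (hlcm ▸ Nat.lcm_dvd (Nat.dvd_lcm_left _ _) ((orderOf_dvd_of_pow_eq_one hWi).trans (Nat.dvd_lcm_right _ _)))
      exact ((hp.coprime_iff_not_dvd.2 hM).pow_left i).symm.dvd_of_dvd_mul_right (h1.trans (Nat.lcm_dvd_mul _ _))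
    rw [hord, ← mul_assoc, ← pow_succ']
    exact (((hp.coprime_iff_not_dvd.2 hM).pow_left _)).mul_dvd_of_dvd_of_dvd
      ((pow_dvd_pow p hij).trans (Nat.dvd_lcm_right _ _)) (hMR.trans (Nat.dvd_lcm_left _ _))
  · rw [Module.finrank_prod, Module.finrank_fin_fun]
    omega
  · rw [hp1, ← hpp, hUp, add_zero]
  · rw [hs1, ← hss, hUs, mul_one]
  · rw [orderOf_injective _ (prodHom_injective _ Q'), Prod.orderOf_mk, hj]

section Affine

variable {G : Type*} [Group G] {V : Type*} [AddCommGroup V] [Module F V]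
variable (φ : G →* MulAut (Multiplicative V)) (ρ : G →* Module.End F V)

omit [Fintype F] [Fact p.Prime] [CharP F p] in
theorem affine_pow (hφ : ∀ g v, φ g (Multiplicative.ofAdd v) = Multiplicative.ofAdd (ρ g v))
    (x : Multiplicative V ⋊[φ] G) (k : ℕ) :
    (x ^ k).right = x.right ^ k ∧
      (x ^ k).left = Multiplicative.ofAdd ((∑ i ∈ Finset.range k, ρ x.right ^ i : Module.End F V) x.left.toAdd) := by
  induction k with
  | zero => exact ⟨by simp, by simp⟩
  | succ k ih =>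
    obtain ⟨h1, h2⟩ := ih
    refine ⟨by rw [pow_succ, SemidirectProduct.mul_right, h1, pow_succ], ?_⟩
    rw [pow_succ, SemidirectProduct.mul_left, h1, h2, Finset.sum_range_succ, LinearMap.add_apply, ofAdd_add]
    congr 1
    rw [← map_pow, ← hφ, ofAdd_toAdd]

omit [Fintype F] in
theorem affine_order (hφ : ∀ g v, φ g (Multiplicative.ofAdd v) = Multiplicative.ofAdd (ρ g v))
    (x : Multiplicative V ⋊[φ] G) :
    orderOf x ∣ p * orderOf x.right ∧
    ((∑ i ∈ Finset.range (orderOf x.right), ρ x.right ^ i : Module.End F V) x.left.toAdd = 0 →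
      orderOf x = orderOf x.right) ∧
    ((∑ i ∈ Finset.range (orderOf x.right), ρ x.right ^ i : Module.End F V) x.left.toAdd ≠ 0 →
      0 < orderOf x.right → orderOf x = p * orderOf x.right) := by
  have hp : p.Prime := Fact.out
  obtain ⟨h1, h2⟩ := affine_pow φ ρ hφ x (orderOf x.right)
  rw [pow_orderOf_eq_one] at h1
  have hdvd : orderOf x.right ∣ orderOf x := orderOf_map_dvd SemidirectProduct.rightHom x
  have hinl : x ^ orderOf x.right = SemidirectProduct.inl
      (Multiplicative.ofAdd ((∑ i ∈ Finset.range (orderOf x.right), ρ x.right ^ i : Module.End F V) x.left.toAdd)) :=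
    SemidirectProduct.ext h2 h1
  have hpow : x ^ (p * orderOf x.right) = 1 := by
    rw [mul_comm, pow_mul, hinl, ← map_pow, ← ofAdd_nsmul, ← Nat.cast_smul_eq_nsmul F, CharP.cast_eq_zero,
      zero_smul, ofAdd_zero, map_one]
  refine ⟨orderOf_dvd_of_pow_eq_one hpow,
    fun h => Nat.dvd_antisymm (orderOf_dvd_of_pow_eq_one ?_) hdvd, fun h hpos => ?_⟩
  · rw [hinl, h, ofAdd_zero, map_one]
  · obtain ⟨k, hk⟩ := hdvd
    have hk2 : k ∣ p := Nat.dvd_of_mul_dvd_mul_left hpos
      (hk ▸ (mul_comm p (orderOf x.right)) ▸ orderOf_dvd_of_pow_eq_one hpow)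
    rcases (Nat.dvd_prime hp).1 hk2 with rfl | rfl
    · exfalso
      rw [mul_one] at hk
      have h3 := pow_orderOf_eq_one x
      rw [hk, hinl] at h3
      exact h (Multiplicative.ofAdd.injective
        ((SemidirectProduct.inl_injective (h3.trans (map_one _).symm)).trans ofAdd_zero.symm))
    · rw [hk, mul_comm]

end Affine

/-- The spectra coincide. -/
theorem range_eq (hodd : Odd qq) (hab : ∀ z₁ z₂ : F, z₁ ^ 2 + a * z₁ * z₂ + b * z₂ ^ 2 = 0 → z₁ = 0 ∧ z₂ = 0)
    {f : (((Fin 3 ⊕ Fin 3) ⊕ Fin 2) → F) → F} (hf : ⇑(qMinus 3 F a b) = f)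
    (φ : ↥(Cfsg.Omega F f) →* MulAut (Multiplicative (((Fin 3 ⊕ Fin 3) ⊕ Fin 2) → F)))
    (hφ : ∀ g v, φ g (Multiplicative.ofAdd v) = Multiplicative.ofAdd
      ((((g : ↥(Cfsg.isometryGroup F f)) : Matrix.GeneralLinearGroup ((Fin 3 ⊕ Fin 3) ⊕ Fin 2) F) :
        Matrix ((Fin 3 ⊕ Fin 3) ⊕ Fin 2) ((Fin 3 ⊕ Fin 3) ⊕ Fin 2) F).mulVec v)) :
    Set.range (orderOf : Cfsg.POmega F (Cfsg.quadFormOdd 4 F) → ℕ) =
      Set.range (orderOf : Multiplicative (((Fin 3 ⊕ Fin 3) ⊕ Fin 2) → F) ⋊[φ] ↥(Cfsg.Omega F f) → ℕ) := by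
  subst hf
  have h2 := two_ne (F := F) hodd
  obtain ⟨p, hc⟩ := CharP.exists F
  haveI := hc
  have hp : p.Prime := CharP.char_is_prime F p
  haveI : Fact p.Prime := ⟨hp⟩
  haveI := finite_isometries (qMinus 3 F a b)
  let ρ : ↥(Cfsg.Omega F ⇑(qMinus 3 F a b)) →* Module.End F (((Fin 3 ⊕ Fin 3) ⊕ Fin 2) → F) :=
    (oEnd (qMinus 3 F a b)).comp ((commutator (OQ (qMinus 3 F a b))).subtype.comp (omegaEquiv (qMinus 3 F a b)).toMonoidHom)
  have hρ : ∀ g v, φ g (Multiplicative.ofAdd v) = Multiplicative.ofAdd (ρ g v) := fun g v => by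
    rw [hφ]
    congr 1
  have hord : ∀ g, orderOf ((omegaEquiv (qMinus 3 F a b) g : commutator (OQ (qMinus 3 F a b))) : OQ (qMinus 3 F a b)) = orderOf g := fun g => by
    rw [Subgroup.orderOf_coe, MulEquiv.orderOf_eq]
  ext n
  constructor
  · intro hn
    have hflex : Flex p (qMinus 3 F a b) n := by
      obtain ⟨y, rfl⟩ := hn
      obtain ⟨x, rfl⟩ := QuotientGroup.mk_surjective y
      refine Flex.mono ?_ (orderOf_map_dvd (QuotientGroup.mk' _) x)
      obtain ⟨x', hx'⟩ : ∃ x' : Cfsg.Omega F ⇑(qOdd 4 F), orderOf x' = orderOf x := by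
        rw [coe_qOdd]
        exact ⟨x, rfl⟩
      rw [← hx', ← (omegaEquiv (qOdd 4 F)).orderOf_eq, ← Subgroup.orderOf_coe]
      exact flex_of_nine hodd hab (qOdd_nondeg h2 4) (by rw [Module.finrank_pi]; rfl) _ (omegaEquiv (qOdd 4 F) x').2
    obtain ⟨x, hx, h⟩ := hflex
    set g := (omegaEquiv (qMinus 3 F a b)).symm ⟨x, hx⟩ with hg
    have hgx : ((omegaEquiv (qMinus 3 F a b) g : commutator (OQ (qMinus 3 F a b))) : OQ (qMinus 3 F a b)) = x := by rw [hg, MulEquiv.apply_symm_apply]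
    have hgo : orderOf g = orderOf x := by rw [← hord, hgx]
    have key : ∀ (z : Multiplicative (((Fin 3 ⊕ Fin 3) ⊕ Fin 2) → F) ⋊[φ] ↥(Cfsg.Omega F ⇑(qMinus 3 F a b))) (L : ℕ),
        orderOf z = L → 0 < L → n ∣ L → n ∈ Set.range (orderOf :
          Multiplicative (((Fin 3 ⊕ Fin 3) ⊕ Fin 2) → F) ⋊[φ] ↥(Cfsg.Omega F ⇑(qMinus 3 F a b)) → ℕ) := by
      rintro z L rfl hL hn
      exact ⟨z ^ (orderOf z / n), orderOf_pow_orderOf_div hL.ne' hn⟩
    rcases h with h | ⟨hs, h⟩
    · refine key (SemidirectProduct.inr g) _ ?_ (orderOf_pos x) h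
      rw [orderOf_injective _ SemidirectProduct.inr_injective, hgo]
    · obtain ⟨v, hv⟩ : ∃ v, sumPow x v ≠ 0 := by
        by_contra hc
        push Not at hc
        exact hs (LinearMap.ext hc)
      refine key ⟨Multiplicative.ofAdd v, g⟩ _ ?_ (Nat.mul_pos hp.pos (orderOf_pos x)) h
      rw [← hgo]
      refine (affine_order (p := p) φ ρ hρ _).2.2 ?_ (hgo ▸ orderOf_pos x)
      show (∑ i ∈ Finset.range (orderOf g), oEnd (qMinus 3 F a b) ((omegaEquiv (qMinus 3 F a b) g : commutator (OQ (qMinus 3 F a b))) : OQ (qMinus 3 F a b)) ^ i :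
        Module.End F _) v ≠ 0
      rw [hgx, hgo]
      exact hv
  · rintro ⟨z, rfl⟩
    refine nine_of_flex (p := p) hodd hab ⟨_, (omegaEquiv (qMinus 3 F a b) z.right).2, ?_⟩
    obtain ⟨h1, h0, -⟩ := affine_order (p := p) φ ρ hρ z
    rw [hord]
    by_cases hz : (∑ i ∈ Finset.range (orderOf z.right), ρ z.right ^ i : Module.End F _) z.left.toAdd = 0
    · exact Or.inl (h0 hz ▸ dvd_rfl)
    · refine Or.inr ⟨fun hs => hz ?_, h1⟩
      show (∑ i ∈ Finset.range (orderOf z.right), oEnd (qMinus 3 F a b) ((omegaEquiv (qMinus 3 F a b) z.right : commutator (OQ (qMinus 3 F a b))) : OQ (qMinus 3 F a b)) ^ i :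
        Module.End F _) z.left.toAdd = 0
      rw [← hord]
      exact LinearMap.congr_fun hs _

end CfsgLib.HallGen.OmegaNineSpectrum
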