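import Cfsg.Agent.Lib.HallGen.OmegaNineSpectrum.Tori
import Cfsg.Agent.Lib.HallGen.PrimeGraphBC.Isometries
import Cfsg.Agent.Lib.HallGen.SpEightSpectrum.Blocks

/-!
# A single torus piece filling an eight-dimensional space of square discriminant
-/

set_option autoImplicit false

namespace CfsgLib.HallGen.OmegaNineSpectrum

open Module Polynomial
open QuadraticMap (polar polarBilin)
open CfsgLib.Classical.Quad CfsgLib.Known.OmegaCriterion
open CfsgLib.HallGen.PrimeGraphBC (oEnd oEnd_injective split two_mul_finrank_le iso_pow irreducible_disc)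
open CfsgLib.HallGen.SpEightSpectrum (Piece HasFactor)

variable {F : Type*} [Field F] [Fintype F]

local notation "qq" => Fintype.card F

variable {V : Type*} [AddCommGroup V] [Module F V] [FiniteDimensional F V]

theorem adjoint_comp (B : V →ₗ[F] V →ₗ[F] F) (S : Module.End F V) (hiso : ∀ u v, B (S u) (S v) = B u v) {M : ℕ}
    (hM0 : 0 < M) (hSM : S ^ M = 1) (P : F[X]) :
    ∀ u v : V, B (aeval S P u) v = B u (aeval S (P.comp (X ^ (M - 1))) v) := by
  induction P using Polynomial.induction_on' with
  | add P Q hP hQ =>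
    intro u v
    rw [map_add, LinearMap.add_apply, map_add, LinearMap.add_apply, hP, hQ, add_comp, map_add,
      LinearMap.add_apply, map_add]
  | monomial n c =>
    intro u v
    have hinv : (S ^ n) (((S ^ (M - 1)) ^ n) v) = v := by
      rw [← Module.End.mul_apply, ← (Commute.pow_self S (M - 1)).symm.mul_pow, ← pow_succ',
        Nat.sub_add_cancel hM0, hSM, one_pow]
      rfl
    rw [aeval_comp, map_pow, aeval_X, aeval_monomial, aeval_monomial, Module.algebraMap_end_eq_smul_id]
    show B (c • (S ^ n) u) v = B u (c • ((S ^ (M - 1)) ^ n) v)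
    rw [map_smul, LinearMap.smul_apply, map_smul]
    conv_lhs => rw [← hinv, iso_pow B hiso]

/-- An irreducible minimal polynomial of full degree leaves no invariant subspace. -/
theorem irreducible_of_kill {S : Module.End F V} {f : F[X]} (hfm : f.Monic) (hfi : Irreducible f)
    (hkill : ∀ v, aeval S f v = 0) (hdeg : f.natDegree = finrank F V) (L : Submodule F V)
    (hL : ∀ v ∈ L, S v ∈ L) : L = ⊥ ∨ L = ⊤ := by
  refine or_iff_not_imp_left.2 fun h0 => ?_
  haveI : Nontrivial L := Submodule.nontrivial_iff_ne_bot.2 h0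
  set T := S.restrict hL with hT
  have hco : ∀ (P : F[X]) (w : L), (aeval T P w : V) = aeval S P (w : V) := by
    intro P
    induction P using Polynomial.induction_on' with
    | add P R hP hR => intro w; simp [map_add, hP, hR]
    | monomial k a =>
      intro w
      rw [aeval_monomial, aeval_monomial, hT, Module.End.pow_restrict k]
      simp [Module.algebraMap_end_apply]
  have hint : IsIntegral F T := Algebra.IsIntegral.isIntegral T
  have hmin : minpoly F T = f := eq_of_monic_of_associated (minpoly.monic hint) hfm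
    ((hfi.dvd_iff.1 (minpoly.dvd F T (LinearMap.ext fun w => Subtype.ext (by rw [hco, hkill]; rfl)))).resolve_left
      (minpoly.not_isUnit F T)).symm
  have h1 := natDegree_le_of_dvd (LinearMap.minpoly_dvd_charpoly T) (LinearMap.charpoly_monic T).ne_zero
  rw [hmin, LinearMap.charpoly_natDegree, hdeg] at h1
  exact Submodule.eq_top_of_finrank_eq (le_antisymm (Submodule.finrank_le _) h1)

/-- The determinant on a totally isotropic invariant half is, up to squares, that of `1 - S`. -/
theorem det_half (B : LinearMap.BilinForm F V) (hsymm : ∀ u v, B u v = B v u)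
    (hnd : ∀ x, (∀ y, B x y = 0) → x = 0) (S : Module.End F V) (hiso : ∀ u v, B (S u) (S v) = B u v) {k : ℕ}
    (hk : Even k) (X : Submodule F V) (hX : ∀ v ∈ X, S v ∈ X) (hXk : finrank F X = k)
    (hVk : finrank F V = k + k) (hsing : ∀ u ∈ X, ∀ v ∈ X, B u v = 0) :
    LinearMap.det (S.restrict hX) * LinearMap.det (1 - S) = LinearMap.det (1 - S.restrict hX) ^ 2 := by
  classical
  obtain ⟨C, hC⟩ := X.exists_isCompl
  have hCk : finrank F C = k := by
    have := Submodule.finrank_add_eq_of_isCompl hC
    omega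
  let bX := Module.finBasisOfFinrankEq F X hXk
  let bC := Module.finBasisOfFinrankEq F C hCk
  let b : Basis (Fin k ⊕ Fin k) F V := (bX.prod bC).map (X.prodEquivOfIsCompl C hC)
  have hl : ∀ i, b (Sum.inl i) = (bX i : V) := fun i => by simp [b]
  have hrep : ∀ v : X, b.repr (v : V) = (bX.prod bC).repr (v, 0) := fun v => by
    rw [Basis.map_repr, LinearEquiv.trans_apply, Submodule.prodEquivOfIsCompl_symm_apply_left]
  set A := LinearMap.toMatrix bX bX (S.restrict hX) with hA
  set Mt := LinearMap.toMatrix b b S with hMt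
  set K := Mt.toBlocks₁₂ with hK
  set D := Mt.toBlocks₂₂ with hD
  have hM : Mt = Matrix.fromBlocks A K 0 D := by
    conv_lhs => rw [← Matrix.fromBlocks_toBlocks Mt]
    congr 1
    · ext i j
      simp only [Matrix.toBlocks₁₁, Matrix.of_apply, hMt, hA, LinearMap.toMatrix_apply, hl]
      rw [show S (bX j : V) = ((S.restrict hX (bX j) : X) : V) from rfl, hrep]
      simp
    · ext i j
      simp only [Matrix.toBlocks₂₁, Matrix.of_apply, hMt, LinearMap.toMatrix_apply, hl, Matrix.zero_apply]
      rw [show S (bX j : V) = ((S.restrict hX (bX j) : X) : V) from rfl, hrep]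
      simp
  set G := LinearMap.BilinForm.toMatrix b B with hG
  set P := G.toBlocks₁₂ with hP
  have hGb : G = Matrix.fromBlocks 0 P P.transpose G.toBlocks₂₂ := by
    conv_lhs => rw [← Matrix.fromBlocks_toBlocks G]
    congr 1
    · ext i j
      simp only [Matrix.toBlocks₁₁, Matrix.of_apply, hG, LinearMap.BilinForm.toMatrix_apply, hl, Matrix.zero_apply]
      exact hsing _ (bX i).2 _ (bX j).2
    · ext i j
      simp only [Matrix.toBlocks₂₁, hP, Matrix.toBlocks₁₂, Matrix.transpose_apply, Matrix.of_apply, hG,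
        LinearMap.BilinForm.toMatrix_apply]
      exact hsymm _ _
  have hPd : P.det ≠ 0 := by
    intro h0
    obtain ⟨v, hv0, hv⟩ := Matrix.exists_vecMul_eq_zero_iff.2 h0
    refine hv0 (funext fun i => ?_)
    have h1 : (∑ j, v j • (bX j : V)) = 0 := hnd _ fun y => by
      have hzero : ∀ t, B (∑ j, v j • (bX j : V)) (b t) = 0 := by
        intro t
        rw [map_sum, LinearMap.sum_apply]
        rcases t with t | t
        · rw [hl]
          exact Finset.sum_eq_zero fun j _ => by rw [map_smul, LinearMap.smul_apply, hsing _ (bX j).2 _ (bX t).2, smul_zero]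
        · have h2 := congrFun hv t
          rw [Pi.zero_apply] at h2
          rw [← h2]
          refine Finset.sum_congr rfl fun j _ => ?_
          rw [map_smul, LinearMap.smul_apply, smul_eq_mul, hP]
          simp [Matrix.toBlocks₁₂, hG, LinearMap.BilinForm.toMatrix_apply, hl]
      exact LinearMap.congr_fun (b.ext (f₁ := B (∑ j, v j • (bX j : V))) (f₂ := 0) hzero) y
    have h3 : (∑ j, v j • bX j) = 0 := Subtype.ext (by push_cast; exact h1)
    exact Fintype.linearIndependent_iff.1 bX.linearIndependent v h3 i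
  have hrel : Mt.transpose * G * Mt = G := by
    rw [hMt, hG, ← LinearMap.BilinForm.toMatrix_comp b b]
    congr 1
    exact LinearMap.ext₂ hiso
  have h12 : A.transpose * P * D = P := by
    rw [hM, hGb, Matrix.fromBlocks_transpose, Matrix.fromBlocks_multiply, Matrix.fromBlocks_multiply] at hrel
    simpa using congrArg Matrix.toBlocks₁₂ hrel
  have hdS : LinearMap.det (1 - S) = (1 - A).det * (1 - D).det := by
    rw [← LinearMap.det_toMatrix b, map_sub, LinearMap.toMatrix_one, ← hMt, hM, ← Matrix.fromBlocks_one,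
      sub_eq_add_neg, Matrix.fromBlocks_neg, Matrix.fromBlocks_add, neg_zero, add_zero, Matrix.det_fromBlocks_zero₂₁,
      ← sub_eq_add_neg, ← sub_eq_add_neg]
  have hd2 : A.det * (1 - D).det = (1 - A).det := by
    have h : A.transpose * P * (1 - D) = -((1 - A).transpose * P) := by
      rw [Matrix.mul_sub, mul_one, h12, Matrix.transpose_sub, Matrix.transpose_one, sub_mul, one_mul]
      abel
    have h3 := congrArg Matrix.det h
    rw [Matrix.det_mul, Matrix.det_mul, Matrix.det_neg, Matrix.det_mul, Matrix.det_transpose, Matrix.det_transpose,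
      Fintype.card_fin, hk.neg_one_pow, one_mul, mul_right_comm] at h3
    exact mul_right_cancel₀ hPd h3
  have hdX : LinearMap.det (1 - S.restrict hX) = (1 - A).det := by
    rw [← LinearMap.det_toMatrix bX, map_sub, LinearMap.toMatrix_one, hA]
  rw [← LinearMap.det_toMatrix bX (S.restrict hX), ← hA, hdS, hdX, mul_left_comm, hd2, pow_two]

/-- One piece of degree four on a space of square discriminant. -/
theorem single_factor (hodd : Odd qq) {Q : QuadraticForm F V} (hQ : (polarBilin Q).Nondegenerate)
    (hdim : finrank F V = 8) (hdisc : disc Q = 1) (s : OQ Q) (hs : spinor s = 1) {M : ℕ} (hM : orderOf s = M)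
    (hM0 : 0 < M) (hMF : (M : F) ≠ 0) (hfix : ∀ v, oEnd Q s v = v → v = 0)
    (hneg : ∀ v, oEnd Q s v = -v → v = 0) {x : Piece (Nat.card F)} (hx : HasFactor (oEnd Q s) M x)
    (hd : x.d = 4) (hc : x.c = 1) (ht : M ∣ x.t) : M ∣ (qq ^ 4 - 1) / 2 := by
  classical
  have h2 := two_ne (F := F) hodd
  set S := oEnd Q s with hS
  set B := polarBilin Q with hB
  have hsymm : ∀ u v, B u v = B v u := fun u v => QuadraticMap.polar_comm _ u v
  have hiso : ∀ u v, B (S u) (S v) = B u v := fun u v => OQ.map_polar s u v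
  have hSord : orderOf S = M := (orderOf_injective _ oEnd_injective s).trans hM
  have hSM : S ^ M = 1 := hSord ▸ pow_orderOf_eq_one S
  haveI : Nontrivial V := Module.nontrivial_of_finrank_pos (R := F) (by omega)
  obtain ⟨f, hfm, hfi, -, hker, hcase⟩ := hx
  rw [hc, mul_one] at hker
  rcases hcase with ⟨hxt, hdeg⟩ | ⟨-, hdeg, hnR⟩
  · exfalso
    rw [hd] at hdeg hxt
    replace hxt : x.t = qq ^ 4 + 1 := hxt.trans (by rw [Nat.card_eq_fintype_card])
    have htop : LinearMap.ker (aeval S f) = ⊤ := Submodule.eq_top_of_finrank_eq (by omega)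
    have hirr := irreducible_of_kill hfm hfi (fun v => LinearMap.mem_ker.1 (htop.ge Submodule.mem_top))
      (by omega)
    have hM3 : 3 ≤ M := by
      by_contra h
      have hS2 : S ^ 2 = 1 := by
        rcases (show M = 1 ∨ M = 2 by omega) with rfl | rfl
        · rw [pow_one] at hSM
          rw [hSM, one_pow]
        · exact hSM
      obtain ⟨v, hv⟩ := exists_ne (0 : V)
      refine hv (hneg v ?_)
      have h1 : (S v + v) = 0 := hfix _ (by
        rw [map_add, ← Module.End.mul_apply, ← pow_two, hS2, Module.End.one_apply, add_comm])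
      exact eq_neg_of_add_eq_zero_left h1
    let b := Module.finBasisOfFinrankEq F V (show finrank F V = 2 * 4 by omega)
    have hsq : IsSquare (LinearMap.BilinForm.toMatrix b B).det := by
      rw [← sqc_eq_one_iff (det_gram_ne_zero hQ b), ← disc_eq_basis hQ b, hdisc]
    have h4 := irreducible_disc hodd S hSord hM3 hirr B hiso hsymm
      (fun y hy => hQ.1 y fun z => (hsymm y z).trans (hy z)) (by norm_num) (by omega) (hxt ▸ ht) b hsq
    obtain ⟨r, hr⟩ := hodd.pow (n := 2)
    rw [show qq ^ 4 = (qq ^ 2) ^ 2 by ring, hr, show (2 * r + 1) ^ 2 + 1 = 4 * (r * r + r) + 2 by ring] at h4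
    omega
  rw [hd] at hdeg
  set Xs := LinearMap.ker (aeval S f) with hXs
  have hX4 : finrank F Xs = 4 := by rw [hker, hdeg]
  have hXinv : ∀ v ∈ Xs, S v ∈ Xs := fun v hv => by
    have hc : Commute (aeval S f) S := by
      simpa using ((Commute.all f X).map (aeval S))
    have := LinearMap.congr_fun hc.eq v
    rw [Module.End.mul_apply, Module.End.mul_apply, LinearMap.mem_ker.1 hv, map_zero] at this
    exact LinearMap.mem_ker.2 this
  have hsing : ∀ u ∈ Xs, ∀ v ∈ Xs, B u v = 0 := by
    intro u hu v hv
    obtain ⟨a, b, hab⟩ := hfi.coprime_iff_not_dvd.2 hnR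
    have h1 := congrArg (fun P => aeval S P v) hab
    simp only [map_add, map_mul, map_one, LinearMap.add_apply, Module.End.mul_apply, LinearMap.mem_ker.1 hv,
      map_zero, zero_add, Module.End.one_apply] at h1
    rw [← h1, ← Module.End.mul_apply, ← map_mul, mul_comm, map_mul, Module.End.mul_apply,
      ← adjoint_comp B S hiso hM0 hSM, LinearMap.mem_ker.1 hu, map_zero, LinearMap.zero_apply]
  have hdet := det_half B hsymm hQ.1 S hiso (k := 4) ⟨2, rfl⟩ Xs hXinv hX4 (by omega) hsing
  obtain ⟨-, hspin⟩ := invs_fpf h2 hQ s hfix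
  rw [hs, hdisc, one_mul, ← hS] at hspin
  set A := S.restrict hXinv with hA
  have hd0 : LinearMap.det (1 - S) ≠ 0 := by
    intro h0
    obtain ⟨v, hv, hv0⟩ := Submodule.exists_mem_ne_zero_of_ne_bot (LinearMap.bot_lt_ker_of_det_eq_zero h0).ne'
    rw [LinearMap.mem_ker, LinearMap.sub_apply, Module.End.one_apply, sub_eq_zero] at hv
    exact hv0 (hfix v hv.symm)
  -- the field
  haveI : Fact (Irreducible f) := ⟨hfi⟩
  let pb := AdjoinRoot.powerBasis hfi.ne_zero
  haveI : FiniteDimensional F (AdjoinRoot f) := pb.finite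
  haveI : Finite (AdjoinRoot f) := Module.finite_of_finite F
  haveI : Fintype (AdjoinRoot f) := Fintype.ofFinite _
  have hK : Fintype.card (AdjoinRoot f) = qq ^ 4 := by
    rw [Module.card_eq_pow_finrank (K := F), pb.finrank]
    simp [pb, hdeg]
  haveI : Nontrivial Xs := Module.nontrivial_of_finrank_pos (R := F) (by omega)
  have hAint : IsIntegral F A := Algebra.IsIntegral.isIntegral A
  have hco : ∀ (P : F[X]) (w : Xs), (aeval A P w : V) = aeval S P (w : V) := by
    intro P
    induction P using Polynomial.induction_on' with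
    | add P R hP hR => intro w; simp [map_add, hP, hR]
    | monomial k a =>
      intro w
      rw [aeval_monomial, aeval_monomial, hA, Module.End.pow_restrict k]
      simp [Module.algebraMap_end_apply]
  have hAf : aeval A f = 0 := LinearMap.ext fun w => Subtype.ext (by
    rw [hco, LinearMap.mem_ker.1 w.2]; rfl)
  have hmin : minpoly F A = f := eq_of_monic_of_associated (minpoly.monic hAint) hfm
    ((hfi.dvd_iff.1 (minpoly.dvd F A hAf)).resolve_left (minpoly.not_isUnit F A)).symm
  have hchar : LinearMap.charpoly A = f := by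
    refine (eq_of_monic_of_dvd_of_natDegree_le hfm (LinearMap.charpoly_monic A)
      (hmin ▸ LinearMap.minpoly_dvd_charpoly A) ?_)
    rw [LinearMap.charpoly_natDegree, hX4, hdeg]
  have hN : Algebra.norm F (AdjoinRoot.root f) = LinearMap.det A := by
    rw [← AdjoinRoot.powerBasis_gen hfi.ne_zero, Algebra.PowerBasis.norm_gen_eq_coeff_zero_minpoly,
      AdjoinRoot.powerBasis_gen, AdjoinRoot.minpoly_root hfi.ne_zero, hfm.leadingCoeff, inv_one, map_one, mul_one,
      AdjoinRoot.powerBasis_dim, LinearMap.det_eq_sign_charpoly_coeff, hchar, hX4, hdeg]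
  have hA0 : LinearMap.det A ≠ 0 := fun h0 => by
    rw [h0, zero_mul, eq_comm, pow_eq_zero_iff two_ne_zero] at hdet
    obtain ⟨v, hv, hv0⟩ := Submodule.exists_mem_ne_zero_of_ne_bot (LinearMap.bot_lt_ker_of_det_eq_zero hdet).ne'
    rw [LinearMap.mem_ker, LinearMap.sub_apply, Module.End.one_apply, sub_eq_zero] at hv
    exact hv0 (Subtype.ext (hfix v (congrArg Subtype.val hv).symm))
  have hAsq : sqc (LinearMap.det A) = 1 := by
    have h1 : sqc (LinearMap.det A * LinearMap.det (1 - S)) = 1 := by
      rw [sqc_eq_one_iff (mul_ne_zero hA0 hd0), hdet]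
      exact IsSquare.sq _
    rwa [sqc_mul hA0 hd0, ← hspin, mul_one] at h1
  set h := (qq ^ 4 - 1) / 2 with hh
  have hr : AdjoinRoot.root f ^ h = 1 := by
    rw [hh, ← norm_pow_half hodd hK, hN, (sqc_eq_one_iff_pow h2 hA0).1 hAsq, map_one]
  have hfd : f ∣ X ^ h - 1 := by
    rw [← AdjoinRoot.mk_eq_zero, map_sub, map_pow, map_one, AdjoinRoot.mk_X, hr, sub_self]
  have hXfix : ∀ v ∈ Xs, (S ^ h) v = v := by
    intro v hv
    obtain ⟨R, hR⟩ := hfd
    have h1 : aeval S ((X : F[X]) ^ h - 1) v = 0 := by
      rw [hR, mul_comm, map_mul, Module.End.mul_apply, LinearMap.mem_ker.1 hv, map_zero]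
    rwa [map_sub, map_pow, aeval_X, map_one, LinearMap.sub_apply, Module.End.one_apply, sub_eq_zero] at h1
  obtain ⟨hcmp, horth, -, -, -⟩ := split B hQ.1 (fun u v h => (hsymm v u).trans h) (S ^ h) (iso_pow B hiso h) hMF
    (by rw [← pow_mul, mul_comm, pow_mul, hSM, one_pow])
  set W := LinearMap.ker (S ^ h - 1) with hW
  have hndW : ∀ x : W, (∀ y : W, B.compl₁₂ W.subtype W.subtype x y = 0) → x = 0 := fun x hx =>
    Subtype.ext (hQ.1 _ fun z => by
      obtain ⟨r, hr, w, hw, rfl⟩ := Submodule.mem_sup.1 (hcmp.sup_eq_top.ge (Submodule.mem_top (x := z)))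
      show B (x : V) (r + w) = 0
      rw [map_add, hsymm, horth r hr _ x.2, zero_add]
      exact hx ⟨w, hw⟩)
  have hXW : Xs ≤ W := fun v hv => by
    rw [hW, LinearMap.mem_ker, LinearMap.sub_apply, Module.End.one_apply, hXfix v hv, sub_self]
  have h8 := two_mul_finrank_le (B.compl₁₂ W.subtype W.subtype) hndW (Xs.comap W.subtype)
    (fun u hu v hv => hsing _ hu _ hv)
  rw [(Submodule.comapSubtypeEquivOfLe hXW).finrank_eq, hX4] at h8
  have hWtop : W = ⊤ := Submodule.eq_top_of_finrank_eq (le_antisymm (Submodule.finrank_le _) (by omega))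
  rw [← hSord]
  exact orderOf_dvd_of_pow_eq_one (sub_eq_zero.1 (LinearMap.ker_eq_top.1 hWtop))

end CfsgLib.HallGen.OmegaNineSpectrum
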