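import Cfsg.Agent.Lib.HallGen.OmegaNineSpectrum.Invariants
import Cfsg.Agent.Lib.HallGen.OrthSpectrum.TraceForms

/-!
# Cyclic tori of the even-dimensional orthogonal groups and their spinor norms
-/

set_option autoImplicit false

namespace CfsgLib.HallGen.OmegaNineSpectrum

open Module
open QuadraticMap (polar polarBilin)
open CfsgLib.Classical.Quad CfsgLib.Known.OmegaCriterion
open CfsgLib.HallGen.PrimeGraphBC (conjHom conjHom_injective oEnd nondeg_comp exists_unit_order)

variable {F : Type*} [Field F] [Fintype F]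

local notation "qq" => Fintype.card F

/-- The data of a torus generator. -/
def IsTorus {W : Type*} [AddCommGroup W] [Module F W] [FiniteDimensional F W] (Q : QuadraticForm F W) (g : OQ Q)
    (t : ℕ) (c : SqClass F) : Prop :=
  (polarBilin Q).Nondegenerate ∧ orderOf g = t ∧ par g = 0 ∧ spinor g ≠ 1 ∧ disc Q = c

theorem torus_coordinates (h2 : (2 : F) ≠ 0) {W : Type*} [AddCommGroup W] [Module F W] [FiniteDimensional F W]
    {k : ℕ} (hf : finrank F W = k) {Q : QuadraticForm F W} {g : OQ Q} {t : ℕ} {c : SqClass F}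
    (h : IsTorus Q g t c) :
    ∃ (R : QuadraticForm F (Fin k → F)) (x : OQ R), IsTorus R x t c := by
  obtain ⟨hQ, ht, hp, hs, hc⟩ := h
  let E := LinearEquiv.ofFinrankEq W (Fin k → F) (by rw [hf, Module.finrank_fin_fun])
  let R : QuadraticForm F (Fin k → F) := Q.comp (E.symm : (Fin k → F) →ₗ[F] W)
  have hR := nondeg_comp hQ E.symm
  have hE : ∀ v, R (E v) = 1 * Q v := fun v => by rw [one_mul]; exact congrArg Q (E.symm_apply_apply v)
  obtain ⟨h1, h2'⟩ := invs_conjHom h2 hQ hR E hE g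
  exact ⟨R, conjHom E 1 hE g, hR, (orderOf_injective _ (conjHom_injective E 1 hE) g).trans ht, h1.trans hp,
    h2' ▸ hs, (disc_congr hR E (fun v => (hE v).trans (one_mul _))).symm.trans hc⟩

theorem norm_pow_half {K : Type*} [Field K] [Fintype K] [Algebra F K] (hodd : Odd qq) {k : ℕ}
    (hK : Fintype.card K = qq ^ k) (z : K) :
    algebraMap F K (Algebra.norm F z ^ (qq / 2)) = z ^ ((qq ^ k - 1) / 2) := by
  rw [map_pow, FiniteField.algebraMap_norm_eq_pow, ← pow_mul, Nat.card_eq_fintype_card, Nat.card_eq_fintype_card,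
    hK]
  congr 1
  obtain ⟨r, hr⟩ := hodd
  have h1 := Nat.div_mul_cancel (Nat.sub_one_dvd_pow_sub_one qq k)
  generalize (qq ^ k - 1) / (qq - 1) = m at h1
  rw [← h1, hr, Nat.add_sub_cancel, show (2 * r + 1) / 2 = r by omega, show m * (2 * r) = 2 * (m * r) by ring,
    Nat.mul_div_cancel_left _ two_pos]

theorem two_ne (hodd : Odd qq) : (2 : F) ≠ 0 := two_ne_zero_of_odd rfl hodd

/-- The torus of order `q ^ d - 1`. -/
theorem exists_torus_plus (hodd : Odd qq) {d : ℕ} (hd : 1 ≤ d) :
    ∃ (R : QuadraticForm F (Fin (2 * d) → F)) (x : OQ R), IsTorus R x (qq ^ d - 1) (sqc ((-1 : F) ^ d)) := by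
  classical
  obtain ⟨p, hc⟩ := CharP.exists F
  haveI := hc
  haveI : Fact p.Prime := ⟨CharP.char_is_prime F p⟩
  have h2 := two_ne (F := F) hodd
  haveI : NeZero d := ⟨by omega⟩
  let L := FiniteField.Extension F p d
  haveI := Fintype.ofFinite L
  have hfL : finrank F L = d := FiniteField.finrank_extension F p d
  have hL : Fintype.card L = qq ^ d := by
    rw [← Nat.card_eq_fintype_card, FiniteField.natCard_extension, Nat.card_eq_fintype_card]
  have hf : finrank F (L × L) = 2 * d := by rw [Module.finrank_prod, hfL, two_mul]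
  let B : LinearMap.BilinForm F (L × L) :=
    (Algebra.traceForm F L).compl₁₂ (LinearMap.fst F L L) (LinearMap.snd F L L)
  let Q : QuadraticForm F (L × L) := LinearMap.BilinMap.toQuadraticMap B
  have hQv : ∀ x, Q x = Algebra.trace F L (x.1 * x.2) := fun _ => rfl
  have hpol : ∀ x y, polar Q x y = Algebra.trace F L (x.1 * y.2) + Algebra.trace F L (y.1 * x.2) := fun x y => by
    show polar (LinearMap.BilinMap.toQuadraticMap B) x y = _
    rw [LinearMap.BilinMap.polar_toQuadraticMap]
    rfl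
  have hQ : (polarBilin Q).Nondegenerate := nondegenerate_of_left fun x hx => by
    refine Prod.ext ((traceForm_nondegenerate F L).1 _ fun y => ?_) ((traceForm_nondegenerate F L).2 _ fun y => ?_)
    · have := hx (0, y)
      rw [hpol] at this
      simpa [Algebra.traceForm_apply] using this
    · have := hx (y, 0)
      rw [hpol] at this
      simpa [Algebra.traceForm_apply] using this
  obtain ⟨a, ha⟩ := exists_unit_order (K := L) (M := qq ^ d - 1) (hL.symm ▸ dvd_rfl)
  let ρ : Lˣ →* OQ Q :=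
    { toFun := fun a => ⟨LinearEquiv.prodCongr
          (LinearEquiv.ofLinear (LinearMap.mulLeft F (a : L)) (LinearMap.mulLeft F ((a⁻¹ : Lˣ) : L))
            (LinearMap.ext fun x => by simp) (LinearMap.ext fun x => by simp))
          (LinearEquiv.ofLinear (LinearMap.mulLeft F ((a⁻¹ : Lˣ) : L)) (LinearMap.mulLeft F (a : L))
            (LinearMap.ext fun x => by simp) (LinearMap.ext fun x => by simp)), fun x _ => by
        show Q ((a : L) * x.1, ((a⁻¹ : Lˣ) : L) * x.2) = Q x
        rw [hQv, hQv]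
        congr 1
        rw [mul_mul_mul_comm, Units.mul_inv, one_mul]⟩
      map_one' := Subtype.ext (LinearEquiv.ext fun x => Prod.ext (one_mul _) (by simp))
      map_mul' := fun a b => Subtype.ext (LinearEquiv.ext fun x => Prod.ext (mul_assoc (a : L) (b : L) x.1) (by
        show (((a * b)⁻¹ : Lˣ) : L) * x.2 = ((a⁻¹ : Lˣ) : L) * (((b⁻¹ : Lˣ) : L) * x.2)
        rw [mul_inv, Units.val_mul, mul_assoc])) }
  have hρ : Function.Injective ρ := fun a b e => Units.ext (by
    have := congrArg Prod.fst (LinearEquiv.congr_fun (congrArg Subtype.val e) (1, 0))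
    simpa [ρ] using this)
  have hqd : 3 ≤ qq ^ d := by
    have h3 : 3 ≤ qq := by have := Fintype.one_lt_card (α := F); obtain ⟨r, hr⟩ := hodd; omega
    exact h3.trans (Nat.le_self_pow (by omega) _)
  have hne : (a : L) ≠ 1 := fun h => by
    rw [show a = 1 from Units.ext h, orderOf_one] at ha; omega
  have hne' : ((a⁻¹ : Lˣ) : L) ≠ 1 := fun h => hne (by
    have h1 := Units.mul_inv a
    rwa [h, mul_one] at h1)
  have hfix : ∀ v, oEnd Q (ρ a) v = v → v = 0 := by
    intro v hv
    refine Prod.ext ?_ ?_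
    · have h1 : (a : L) * v.1 = v.1 := congrArg Prod.fst hv
      by_contra h0
      exact hne ((mul_eq_right₀ h0).1 h1)
    · have h1 : ((a⁻¹ : Lˣ) : L) * v.2 = v.2 := congrArg Prod.snd hv
      by_contra h0
      exact hne' ((mul_eq_right₀ h0).1 h1)
  obtain ⟨hp, hs⟩ := invs_fpf h2 hQ (ρ a) hfix
  have hdisc : disc Q = sqc ((-1 : F) ^ d) := by
    set b := Module.finBasis F (L × L)
    have h := (exists_half_iff_det h2 (B := polarBilin Q) ⟨fun u v => QuadraticMap.polar_comm _ u v⟩ hQ hd hf b).1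
      ⟨LinearMap.range (LinearMap.inl F L L), by
        rw [LinearMap.finrank_range_of_inj LinearMap.inl_injective, hfL], by
        rintro _ ⟨x, rfl⟩ _ ⟨y, rfl⟩
        show polar Q (x, 0) (y, 0) = 0
        rw [hpol]
        simp⟩
    have h1 : ((-1 : F) ^ d) ≠ 0 := pow_ne_zero _ (neg_ne_zero.2 one_ne_zero)
    have hd0 := det_gram_ne_zero hQ b
    rw [← sqc_eq_one_iff (mul_ne_zero h1 hd0), sqc_mul h1 hd0] at h
    rw [disc_eq_basis hQ b]
    calc sqc (LinearMap.BilinForm.toMatrix b (polarBilin Q)).det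
        = (sqc ((-1 : F) ^ d) * sqc ((-1 : F) ^ d)) * sqc (LinearMap.BilinForm.toMatrix b (polarBilin Q)).det := by
          rw [sqc_mul_self, one_mul]
      _ = sqc ((-1 : F) ^ d) := by rw [mul_assoc, h, mul_one]
  refine torus_coordinates h2 hf (g := ρ a)
    ⟨hQ, (orderOf_injective ρ hρ a).trans ha, by
      rw [hp, hf, ZMod.natCast_eq_zero_iff_even]; exact even_two_mul d, ?_, hdisc⟩
  have hdet : LinearMap.det (1 - oEnd Q (ρ a)) =
      Algebra.norm F (1 - (a : L)) * Algebra.norm F (1 - ((a⁻¹ : Lˣ) : L)) := by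
    rw [Algebra.norm_apply, Algebra.norm_apply, ← LinearMap.det_prodMap]
    congr 1
    refine LinearMap.ext fun v => Prod.ext ?_ ?_
    · show v.1 - (a : L) * v.1 = (1 - (a : L)) * v.1
      ring
    · show v.2 - ((a⁻¹ : Lˣ) : L) * v.2 = (1 - ((a⁻¹ : Lˣ) : L)) * v.2
      ring
  have h1a : (1 - (a : L)) ≠ 0 := sub_ne_zero.2 (Ne.symm hne)
  have e : Algebra.norm F (1 - ((a⁻¹ : Lˣ) : L)) =
      (-1) ^ d * Algebra.norm F (1 - (a : L)) * (Algebra.norm F (a : L))⁻¹ := by
    rw [show ((-1 : F) ^ d) = Algebra.norm F (algebraMap F L (-1)) by rw [Algebra.norm_algebraMap, hfL],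
      map_neg, map_one, ← map_mul]
    refine (eq_mul_inv_iff_mul_eq₀ ((Algebra.norm_ne_zero_iff).2 a.ne_zero)).2 ?_
    rw [← map_mul]
    congr 1
    rw [sub_mul, Units.inv_mul, one_mul]
    ring
  have hN : Algebra.norm F (1 - (a : L)) ≠ 0 := Algebra.norm_ne_zero_iff.2 h1a
  have hNa : Algebra.norm F (a : L) ≠ 0 := Algebra.norm_ne_zero_iff.2 a.ne_zero
  have hcls : sqc (Algebra.norm F (a : L)) ≠ 1 := by
    rw [sqc_ne_one_iff_pow h2 hNa]
    refine (algebraMap F L).injective ?_
    rw [norm_pow_half hodd hL, map_neg, map_one]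
    set u := (a : L) ^ ((qq ^ d - 1) / 2) with hu
    obtain ⟨r, hr⟩ := hodd.pow (n := d)
    have hu2 : u * u = 1 := by
      rw [hu, ← pow_add, ← Units.val_pow_eq_pow_val, show (qq ^ d - 1) / 2 + (qq ^ d - 1) / 2 = qq ^ d - 1 by omega,
        ← ha, pow_orderOf_eq_one, Units.val_one]
    refine (mul_self_eq_one_iff.1 hu2).resolve_left fun h => ?_
    have h3 : orderOf a ∣ (qq ^ d - 1) / 2 :=
      orderOf_dvd_of_pow_eq_one (Units.ext (by rw [Units.val_pow_eq_pow_val]; exact h))
    rw [ha] at h3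
    have := Nat.le_of_dvd (by omega) h3
    omega
  have hval : spinor (ρ a) = sqc (Algebra.norm F (a : L)) := by
    have hm1 : ((-1 : F) ^ d) ≠ 0 := pow_ne_zero _ (neg_ne_zero.2 one_ne_zero)
    rw [hs, hdisc, hdet, e, show Algebra.norm F (1 - (a : L)) * ((-1) ^ d * Algebra.norm F (1 - (a : L)) *
        (Algebra.norm F (a : L))⁻¹) = (Algebra.norm F (1 - (a : L)) * (Algebra.norm F (a : L))⁻¹) *
          ((-1) ^ d * Algebra.norm F (a : L)) * (Algebra.norm F (1 - (a : L)) * (Algebra.norm F (a : L))⁻¹) by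
      field_simp,
      sqc_sq_mul (mul_ne_zero hN (inv_ne_zero hNa)) (mul_ne_zero hm1 hNa), sqc_mul hm1 hNa, ← mul_assoc,
      sqc_mul_self, one_mul]
  rw [hval]
  exact hcls

/-- The torus of order `q ^ d + 1`. -/
theorem exists_torus_minus (hodd : Odd qq) {d : ℕ} (hd : 1 ≤ d) :
    ∃ (R : QuadraticForm F (Fin (2 * d) → F)) (x : OQ R) (e : F), e ≠ 0 ∧
      e ^ (qq / 2) = (-1) ^ ((qq ^ d + 1) / 2) ∧ IsTorus R x (qq ^ d + 1) (sqc e) := by
  classical
  obtain ⟨p, hc⟩ := CharP.exists F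
  haveI := hc
  haveI : Fact p.Prime := ⟨CharP.char_is_prime F p⟩
  have h2 := two_ne (F := F) hodd
  haveI : NeZero (2 * d) := ⟨by omega⟩
  let K := FiniteField.Extension F p (2 * d)
  haveI := Fintype.ofFinite K
  have hK : Fintype.card K = qq ^ (2 * d) := by
    rw [← Nat.card_eq_fintype_card, FiniteField.natCard_extension, Nat.card_eq_fintype_card]
  have hf : finrank F K = 2 * d := FiniteField.finrank_extension F p (2 * d)
  let σ : K ≃ₐ[F] K := FiniteField.frobeniusAlgEquivOfAlgebraic F K ^ d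
  have hσ : ∀ x, σ x = x ^ qq ^ d := fun x => by
    show (FiniteField.frobeniusAlgEquivOfAlgebraic F K ^ d) x = _
    rw [AlgEquiv.coe_pow, FiniteField.coe_frobeniusAlgEquivOfAlgebraic_iterate]
  have hσσ : ∀ x, σ (σ x) = x := fun x => by
    rw [hσ, hσ, ← pow_mul, ← pow_add, ← two_mul, ← hK, FiniteField.pow_card]
  let B : LinearMap.BilinForm F K := LinearMap.comp (Algebra.traceForm F K) σ.toLinearMap
  have hB : ∀ x y, B x y = Algebra.trace F K (σ x * y) := fun _ _ => rfl
  let Q : QuadraticForm F K := LinearMap.BilinMap.toQuadraticMap B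
  have hQv : ∀ x, Q x = B x x := fun _ => rfl
  have hpol : ∀ x y, polar Q x y = 2 * Algebra.trace F K (σ x * y) := fun x y => by
    show polar (LinearMap.BilinMap.toQuadraticMap B) x y = _
    rw [LinearMap.BilinMap.polar_toQuadraticMap, hB, hB]
    have h4 : Algebra.trace F K (σ y * x) = Algebra.trace F K (σ x * y) := by
      conv_rhs => rw [← Algebra.trace_eq_of_algEquiv σ (σ x * y), map_mul σ, hσσ, mul_comm x]
    linear_combination h4
  have hQ : (polarBilin Q).Nondegenerate := nondegenerate_of_left fun x hx => by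
    refine σ.injective (((traceForm_nondegenerate F K).1 _ fun y => ?_).trans (map_zero σ).symm)
    exact (mul_eq_zero.1 ((hpol x y).symm.trans (hx y))).resolve_left h2
  let N : Subgroup Kˣ := (powMonoidHom (qq ^ d + 1) : Kˣ →* Kˣ).ker
  have hN : ∀ a : N, σ ((a : Kˣ) : K) * ((a : Kˣ) : K) = 1 := fun a => by
    rw [hσ, ← pow_succ, ← Units.val_pow_eq_pow_val]
    exact congrArg Units.val (show (a : Kˣ) ^ (qq ^ d + 1) = 1 from a.2)
  let ρ : N →* OQ Q :=
    { toFun := fun a => ⟨LinearEquiv.ofLinear (LinearMap.mulLeft F ((a : Kˣ) : K))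
          (LinearMap.mulLeft F (((a : Kˣ)⁻¹ : Kˣ) : K)) (LinearMap.ext fun x => by simp)
          (LinearMap.ext fun x => by simp), fun x _ => by
        show Q (((a : Kˣ) : K) * x) = Q x
        rw [hQv, hQv, hB, hB, map_mul σ]
        congr 1
        linear_combination (σ x * x) * hN a⟩
      map_one' := Subtype.ext (LinearEquiv.ext fun x => one_mul x)
      map_mul' := fun a b => Subtype.ext (LinearEquiv.ext fun x => mul_assoc ((a : Kˣ) : K) ((b : Kˣ) : K) x) }
  have hρ : Function.Injective ρ := fun a b e => Subtype.ext (Units.ext (by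
    have := LinearEquiv.congr_fun (congrArg Subtype.val e) 1
    simpa [ρ] using this))
  have hq1 : 1 ≤ qq ^ d := Nat.one_le_pow _ _ Fintype.card_pos
  obtain ⟨a, ha⟩ := exists_unit_order (K := K) (M := qq ^ d + 1) (by
    rw [hK, mul_comm 2 d, pow_mul]
    exact ⟨qq ^ d - 1, by rw [← Nat.sq_sub_sq, one_pow]⟩)
  have haN : a ∈ N := orderOf_dvd_iff_pow_eq_one.1 (ha.symm ▸ dvd_rfl)
  set g := ρ ⟨a, haN⟩ with hg
  have hne : (a : K) ≠ 1 := fun h => by
    rw [show a = 1 from Units.ext h, orderOf_one] at ha; omega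
  have hfix : ∀ v, oEnd Q g v = v → v = 0 := by
    intro v hv
    have h1 : (a : K) * v = v := hv
    by_contra h0
    exact hne ((mul_eq_right₀ h0).1 h1)
  obtain ⟨hp, hs⟩ := invs_fpf h2 hQ g hfix
  obtain ⟨r, hr⟩ := hodd
  obtain ⟨s, hs'⟩ : Odd (qq ^ d) := (Odd.pow ⟨r, hr⟩)
  obtain ⟨D, hD0, hDq, hdet⟩ := CfsgLib.HallGen.OrthSpectrum.det_twisted_trace hd hf
    (Module.finBasisOfFinrankEq F K hf) 1
  rw [one_pow, mul_one] at hdet
  have hDh : D ^ (qq - 1) = -1 := by
    refine mul_right_cancel₀ hD0 ?_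
    rw [← pow_succ, Nat.sub_add_cancel Fintype.card_pos, hDq, neg_one_mul]
  have hgram : algebraMap F K
      ((LinearMap.BilinForm.toMatrix (Module.finBasisOfFinrankEq F K hf) (polarBilin Q)).det ^ (qq / 2)) =
      (-1) ^ ((qq ^ d + 1) / 2) := by
    have hm : LinearMap.BilinForm.toMatrix (Module.finBasisOfFinrankEq F K hf) (polarBilin Q) =
        (2 : F) • Matrix.of fun i j => Algebra.trace F K (1 * ((Module.finBasisOfFinrankEq F K hf) i ^ qq ^ d *
          (Module.finBasisOfFinrankEq F K hf) j)) := by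
      ext i j
      rw [LinearMap.BilinForm.toMatrix_apply, QuadraticMap.polarBilin_apply_apply, hpol, hσ, Matrix.smul_apply,
        Matrix.of_apply, one_mul, smul_eq_mul]
    rw [hm, Matrix.det_smul, Fintype.card_fin, mul_pow, map_mul]
    have hs2 : algebraMap F K (((2 : F) ^ (2 * d)) ^ (qq / 2)) = 1 := by
      rw [← pow_mul, show 2 * d * (qq / 2) = (qq - 1) * d by
        rw [hr, Nat.add_sub_cancel, show (2 * r + 1) / 2 = r by omega]; ring, pow_mul,
        FiniteField.pow_card_sub_one_eq_one _ h2, one_pow, map_one]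
    rw [hs2, one_mul, map_pow, hdet, ← pow_mul, ← hDh, ← pow_mul]
    congr 1
    rw [hs', hr, Nat.add_sub_cancel, show (2 * r + 1) / 2 = r by omega, show (2 * s + 1 + 1) / 2 = s + 1 by omega]
    ring
  have hspin : spinor g ≠ 1 := by
    have hdT : LinearMap.det (1 - oEnd Q g) = Algebra.norm F (1 - (a : K)) := by
      rw [Algebra.norm_apply]
      congr 1
      refine LinearMap.ext fun v => ?_
      show v - (a : K) * v = (1 - (a : K)) * v
      ring
    have h1a : (1 - (a : K)) ≠ 0 := sub_ne_zero.2 (Ne.symm hne)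
    have hNne : Algebra.norm F (1 - (a : K)) ≠ 0 := Algebra.norm_ne_zero_iff.2 h1a
    rw [hs, disc_eq_basis hQ (Module.finBasisOfFinrankEq F K hf), hdT,
      ← sqc_mul (det_gram_ne_zero hQ _) hNne, sqc_ne_one_iff_pow h2 (mul_ne_zero (det_gram_ne_zero hQ _) hNne)]
    refine (algebraMap F K).injective ?_
    rw [mul_pow, map_mul, hgram, norm_pow_half (k := 2 * d) ⟨r, hr⟩ hK, map_neg, map_one]
    have haQ : (a : K) ^ (qq ^ d + 1) = 1 := by
      rw [← Units.val_pow_eq_pow_val, ← ha, pow_orderOf_eq_one, Units.val_one]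
    have hah : (a : K) ^ ((qq ^ d + 1) / 2) = -1 := by
      set u := (a : K) ^ ((qq ^ d + 1) / 2) with hu
      have hu2 : u * u = 1 := by
        rw [hu, ← pow_add, show (qq ^ d + 1) / 2 + (qq ^ d + 1) / 2 = qq ^ d + 1 by omega, haQ]
      refine (mul_self_eq_one_iff.1 hu2).resolve_left fun h => ?_
      have h3 : orderOf a ∣ (qq ^ d + 1) / 2 :=
        orderOf_dvd_of_pow_eq_one (Units.ext (by rw [Units.val_pow_eq_pow_val]; exact h))
      rw [ha] at h3
      have := Nat.le_of_dvd (by omega) h3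
      omega
    have h1Q : (1 - (a : K)) ^ (qq ^ d - 1) = -(a : K)⁻¹ := by
      obtain ⟨n, -, hn⟩ := FiniteField.card F p
      haveI : CharP K p := charP_of_injective_algebraMap (algebraMap F K).injective p
      refine mul_right_cancel₀ h1a ?_
      rw [← pow_succ, Nat.sub_add_cancel hq1, hn, ← pow_mul, sub_pow_char_pow, one_pow, pow_mul, ← hn,
        show (a : K) ^ qq ^ d = (a : K)⁻¹ from eq_inv_of_mul_eq_one_left (by rw [← pow_succ]; exact haQ)]
      rw [neg_mul, mul_sub, mul_one, inv_mul_cancel₀ a.ne_zero, neg_sub]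
    rw [show (qq ^ (2 * d) - 1) / 2 = (qq ^ d - 1) * ((qq ^ d + 1) / 2) by
        rw [two_mul, pow_add, hs', Nat.add_sub_cancel, show (2 * s + 1 + 1) / 2 = s + 1 by omega,
          show (2 * s + 1) * (2 * s + 1) = 2 * (2 * s * (s + 1)) + 1 by ring, Nat.add_sub_cancel,
          Nat.mul_div_cancel_left _ two_pos],
      pow_mul, h1Q, ← mul_pow, neg_one_mul, neg_neg, inv_pow, hah, inv_neg, inv_one]
  obtain ⟨R, x, hR⟩ := torus_coordinates h2 hf (g := g)
    ⟨hQ, (orderOf_injective ρ hρ _).trans ((Subgroup.orderOf_mk a haN).trans ha), by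
      rw [hp, hf, ZMod.natCast_eq_zero_iff_even]; exact even_two_mul d, hspin, disc_eq_basis hQ
        (Module.finBasisOfFinrankEq F K hf)⟩
  refine ⟨R, x, _, det_gram_ne_zero hQ _, (algebraMap F K).injective ?_, hR⟩
  rw [hgram, map_pow, map_neg, map_one]

end CfsgLib.HallGen.OmegaNineSpectrum
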